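import Cfsg.Agent.H203.LSChev
import Cfsg.Agent.S1054

/-!
# The Heisenberg bound for `E7(q)`, arbitrary kernels
-/

set_option autoImplicit false
set_option linter.dupNamespace false

universe u v w

namespace Cfsg.Agent.H203.LS.E7

open Cfsg.Lie Cfsg.Agent.H203.LS.Chev

/-- the pairs -/
def prs : List (ℕ × ℕ × ℤ) :=
  [(93, 124, 1), (94, 123, -1), (95, 122, 1), (96, 121, -1), (97, 120, 1), (98, 119, -1), (99, 118, -1),
   (100, 117, 1), (101, 116, -1), (102, 115, 1), (103, 114, -1), (104, 113, 1), (105, 112, -1), (106, 111, -1),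
   (107, 110, 1), (108, 109, -1)]

/-- the certificates for `X` and `A`, `B` -/
def cx : List (Cert × Cert) :=
  [(.dl 94 123 (-1), .dl 94 123 (-1)), (.dl 93 124 1, .dl 93 124 1), (.dl 93 124 1, .dl 93 124 1),
   (.dl 93 124 1, .dl 93 124 1), (.dl 93 124 1, .dl 93 124 1), (.dl 93 124 1, .dl 93 124 1),
   (.dl 93 124 1, .dl 93 124 1), (.dl 93 124 1, .dl 93 124 1), (.dl 93 124 1, .dl 93 124 1),
   (.dl 93 124 1, .dl 93 124 1), (.dl 93 124 1, .dl 93 124 1), (.dl 93 124 1, .dl 93 124 1),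
   (.dl 93 124 1, .dl 93 124 1), (.dl 93 124 1, .dl 93 124 1), (.dl 93 124 1, .dl 93 124 1),
   (.dl 93 124 1, .dl 93 124 1)]

/-- the certificates for `A`, `A` -/
def caa : List (List Cert) :=
  [[.dl 1 125 (-1)],
   [.dl 2 125 1, .dl 2 125 1],
   [.dl 3 125 (-1), .dl 3 125 (-1), .dl 3 125 (-1)],
   [.dl 4 125 1, .dl 4 125 1, .dl 4 125 1, .dl 4 125 1],
   [.dl 5 125 (-1), .dl 5 125 (-1), .dl 5 125 (-1), .dl 5 125 (-1), .dl 5 125 (-1)],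
   [.dl 6 125 1, .dl 6 125 1, .dl 6 125 1, .dl 6 125 1, .dl 6 125 1, .dl 6 125 1],
   [.dl 7 125 1, .dl 7 125 1, .dl 7 125 1, .dl 34 120 1, .dl 33 121 1, .dl 33 121 1, .dl 7 125 1],
   [.dl 8 125 (-1), .dl 8 125 (-1), .dl 36 120 (-1), .dl 8 125 (-1), .dl 33 122 1, .dl 33 122 1, .dl 8 125 (-1),
    .dl 8 125 (-1)],
   [.dl 9 125 1, .dl 9 125 1, .dl 36 121 (-1), .dl 34 122 (-1), .dl 9 125 1, .dl 34 122 (-1), .dl 9 125 1,
    .dl 9 125 1, .dl 9 125 1],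
   [.dl 10 125 (-1), .dl 10 125 (-1), .dl 37 121 1, .dl 35 122 1, .dl 35 122 1, .dl 10 125 (-1), .dl 10 125 (-1),
    .dl 10 125 (-1), .dl 10 125 (-1), .dl 10 125 (-1)],
   [.dl 11 125 1, .dl 39 120 1, .dl 11 125 1, .dl 11 125 1, .dl 33 123 1, .dl 33 123 1, .dl 11 125 1,
    .dl 11 125 1, .dl 33 123 1, .dl 33 123 1, .dl 11 125 1],
   [.dl 12 125 (-1), .dl 39 121 1, .dl 12 125 (-1), .dl 34 123 (-1), .dl 12 125 (-1), .dl 34 123 (-1),
    .dl 12 125 (-1), .dl 34 123 (-1), .dl 12 125 (-1), .dl 34 123 (-1), .dl 12 125 (-1), .dl 12 125 (-1)],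
   [.dl 13 125 1, .dl 40 121 (-1), .dl 13 125 1, .dl 35 123 1, .dl 35 123 1, .dl 13 125 1, .dl 13 125 1,
    .dl 35 123 1, .dl 35 123 1, .dl 13 125 1, .dl 13 125 1, .dl 13 125 1, .dl 13 125 1],
   [.dl 14 125 1, .dl 39 122 1, .dl 36 123 1, .dl 14 125 1, .dl 14 125 1, .dl 36 123 1, .dl 36 123 1,
    .dl 14 125 1, .dl 14 125 1, .dl 36 123 1, .dl 14 125 1, .dl 14 125 1, .dl 39 122 1, .dl 14 125 1],
   [.dl 15 125 (-1), .dl 40 122 (-1), .dl 37 123 (-1), .dl 15 125 (-1), .dl 37 123 (-1), .dl 15 125 (-1),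
    .dl 37 123 (-1), .dl 15 125 (-1), .dl 37 123 (-1), .dl 15 125 (-1), .dl 15 125 (-1), .dl 40 122 (-1),
    .dl 15 125 (-1), .dl 15 125 (-1), .dl 15 125 (-1)],
   [.dl 16 125 1, .dl 41 122 1, .dl 38 123 1, .dl 38 123 1, .dl 16 125 1, .dl 16 125 1, .dl 38 123 1,
    .dl 38 123 1, .dl 16 125 1, .dl 16 125 1, .dl 41 122 1, .dl 16 125 1, .dl 16 125 1, .dl 16 125 1,
    .dl 16 125 1, .dl 16 125 1]]

/-- the certificates for `B`, `A` -/
def cba : List (List Cert) :=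
  [[.tr 0 0, .dl 74 122 (-1), .dl 73 123 1, .dl 73 123 1, .dl 73 123 1, .dl 73 123 1, .dl 73 123 1, .dl 73 123 1,
    .dl 73 123 1, .dl 73 123 1, .dl 74 122 (-1), .dl 74 122 (-1), .dl 74 122 (-1), .dl 75 121 1, .dl 75 121 1,
    .dl 76 120 (-1)],
   [.dl 69 122 1, .tr 0 0, .dl 52 124 1, .dl 52 124 1, .dl 52 124 1, .dl 52 124 1, .dl 52 124 1, .dl 52 124 1,
    .dl 52 124 1, .dl 52 124 1, .dl 31 125 (-1), .dl 31 125 (-1), .dl 31 125 (-1), .dl 31 125 (-1),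
    .dl 31 125 (-1), .dl 31 125 (-1)],
   [.dl 56 123 1, .dl 51 124 (-1), .tr 0 0, .dl 51 124 (-1), .dl 51 124 (-1), .dl 51 124 (-1), .dl 51 124 (-1),
    .dl 30 125 1, .dl 30 125 1, .dl 30 125 1, .dl 51 124 (-1), .dl 51 124 (-1), .dl 51 124 (-1), .dl 30 125 1,
    .dl 30 125 1, .dl 30 125 1],
   [.dl 55 123 (-1), .dl 50 124 1, .dl 50 124 1, .tr 0 0, .dl 50 124 1, .dl 50 124 1, .dl 29 125 (-1),
    .dl 50 124 1, .dl 29 125 (-1), .dl 29 125 (-1), .dl 50 124 1, .dl 29 125 (-1), .dl 29 125 (-1), .dl 50 124 1,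
    .dl 50 124 1, .dl 29 125 (-1)],
   [.dl 54 123 1, .dl 49 124 (-1), .dl 49 124 (-1), .dl 49 124 (-1), .tr 0 0, .dl 49 124 (-1), .dl 28 125 1,
    .dl 28 125 1, .dl 49 124 (-1), .dl 28 125 1, .dl 28 125 1, .dl 49 124 (-1), .dl 28 125 1, .dl 49 124 (-1),
    .dl 28 125 1, .dl 49 124 (-1)],
   [.dl 53 123 (-1), .dl 48 124 1, .dl 48 124 1, .dl 48 124 1, .dl 48 124 1, .tr 0 0, .dl 27 125 (-1),
    .dl 27 125 (-1), .dl 27 125 (-1), .dl 48 124 1, .dl 27 125 (-1), .dl 27 125 (-1), .dl 48 124 1,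
    .dl 27 125 (-1), .dl 48 124 1, .dl 48 124 1],
   [.dl 46 123 1, .dl 42 124 1, .dl 42 124 1, .dl 26 125 (-1), .dl 26 125 (-1), .dl 26 125 (-1), .tr 0 0,
    .dl 42 124 1, .dl 42 124 1, .dl 42 124 1, .dl 42 124 1, .dl 42 124 1, .dl 42 124 1, .dl 26 125 (-1),
    .dl 26 125 (-1), .dl 26 125 (-1)],
   [.dl 45 123 (-1), .dl 41 124 (-1), .dl 25 125 1, .dl 41 124 (-1), .dl 25 125 1, .dl 25 125 1, .dl 41 124 (-1),
    .tr 0 0, .dl 41 124 (-1), .dl 41 124 (-1), .dl 41 124 (-1), .dl 25 125 1, .dl 25 125 1, .dl 41 124 (-1),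
    .dl 41 124 (-1), .dl 25 125 1],
   [.dl 44 123 1, .dl 40 124 1, .dl 24 125 (-1), .dl 24 125 (-1), .dl 40 124 1, .dl 24 125 (-1), .dl 40 124 1,
    .dl 40 124 1, .tr 0 0, .dl 40 124 1, .dl 24 125 (-1), .dl 40 124 1, .dl 24 125 (-1), .dl 40 124 1,
    .dl 24 125 (-1), .dl 40 124 1],
   [.dl 43 123 (-1), .dl 39 124 (-1), .dl 23 125 1, .dl 23 125 1, .dl 23 125 1, .dl 39 124 (-1), .dl 39 124 (-1),
    .dl 39 124 (-1), .dl 39 124 (-1), .tr 0 0, .dl 23 125 1, .dl 23 125 1, .dl 39 124 (-1), .dl 23 125 1,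
    .dl 39 124 (-1), .dl 39 124 (-1)],
   [.dl 45 122 (-1), .dl 22 125 (-1), .dl 38 124 1, .dl 38 124 1, .dl 22 125 (-1), .dl 22 125 (-1), .dl 38 124 1,
    .dl 38 124 1, .dl 22 125 (-1), .dl 22 125 (-1), .tr 0 0, .dl 38 124 1, .dl 38 124 1, .dl 38 124 1,
    .dl 38 124 1, .dl 22 125 (-1)],
   [.dl 44 122 1, .dl 21 125 1, .dl 37 124 (-1), .dl 21 125 1, .dl 37 124 (-1), .dl 21 125 1, .dl 37 124 (-1),
    .dl 21 125 1, .dl 37 124 (-1), .dl 21 125 1, .dl 37 124 (-1), .tr 0 0, .dl 37 124 (-1), .dl 37 124 (-1),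
    .dl 21 125 1, .dl 37 124 (-1)],
   [.dl 43 122 (-1), .dl 20 125 (-1), .dl 36 124 1, .dl 20 125 (-1), .dl 20 125 (-1), .dl 36 124 1, .dl 36 124 1,
    .dl 20 125 (-1), .dl 20 125 (-1), .dl 36 124 1, .dl 36 124 1, .dl 36 124 1, .tr 0 0, .dl 20 125 (-1),
    .dl 36 124 1, .dl 36 124 1],
   [.dl 44 121 1, .dl 19 125 (-1), .dl 19 125 (-1), .dl 35 124 1, .dl 35 124 1, .dl 19 125 (-1), .dl 19 125 (-1),
    .dl 35 124 1, .dl 35 124 1, .dl 19 125 (-1), .dl 35 124 1, .dl 35 124 1, .dl 19 125 (-1), .tr 0 0,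
    .dl 35 124 1, .dl 35 124 1],
   [.dl 43 121 (-1), .dl 18 125 1, .dl 18 125 1, .dl 34 124 (-1), .dl 18 125 1, .dl 34 124 (-1), .dl 18 125 1,
    .dl 34 124 (-1), .dl 18 125 1, .dl 34 124 (-1), .dl 34 124 (-1), .dl 18 125 1, .dl 34 124 (-1),
    .dl 34 124 (-1), .tr 0 0, .dl 34 124 (-1)],
   [.dl 43 120 (-1), .dl 17 125 (-1), .dl 17 125 (-1), .dl 17 125 (-1), .dl 33 124 1, .dl 33 124 1,
    .dl 17 125 (-1), .dl 17 125 (-1), .dl 33 124 1, .dl 33 124 1, .dl 17 125 (-1), .dl 33 124 1, .dl 33 124 1,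
    .dl 33 124 1, .dl 33 124 1, .tr 0 0]]

/-- the ties -/
def ties : List (ℕ × Bool × ℕ × ℤ × ℤ) :=
  [(0, true, 0, 0, 0), (0, true, 73, -1, -1), (0, true, 74, -1, 1), (0, true, 75, -1, -1), (0, true, 76, -1, 1),
   (0, true, 77, -1, -1), (0, true, 83, -1, -1), (0, true, 84, -1, 1), (0, true, 85, -1, -1),
   (0, true, 86, -1, 1), (0, true, 87, -1, -1), (0, true, 88, -1, 1), (0, true, 89, -1, -1),
   (0, true, 90, -1, -1), (0, true, 91, -1, 1), (0, true, 92, -1, -1)]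

/-- the data -/
def dat : Dat := ⟨125, 0, prs, .dl 93 124 1, cx, caa, cba, ties⟩

theorem chkH : dat.chkH chevE7 [1, -1] [] = true := by decide +kernel
theorem rowS_0 : dat.rowS chevE7 [1, -1] [] 0 16 = true := by decide +kernel
theorem rowT_0 : dat.rowT chevE7 0 15 = true := by decide +kernel
theorem rowA_0 : dat.rowA chevE7 [1, -1] [] 0 16 = true := by decide +kernel
theorem rowB_0 : dat.rowB chevE7 [1, -1] [] 0 16 = true := by decide +kernel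

theorem ok : dat.Ok chevE7 [1, -1] [] := by
  refine ⟨chkH, fun i hi => ?_, fun i hi hi0 => ?_, fun i hi j hj => ?_, fun i hi j hj hij => ?_⟩
  · have hi' : i < 16 := hi
    exact Dat.rowS_get _ _ _ _ rowS_0 (by omega) (by omega)
  · have hi' : i < 16 := hi
    exact Dat.rowT_get _ _ rowT_0 (by omega) (by omega)
  · have hi' : i < 16 := hi
    exact Dat.rowA_get _ _ _ _ rowA_0 (by omega) (by omega) hj
  · have hi' : i < 16 := hi
    exact Dat.rowB_get _ _ _ _ rowB_0 (by omega) (by omega) hj hij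

/-- **`LS` for `E7(q)`: `(q - 1) q ^ 16`.** -/
theorem ls {r : ℕ} (F : Type u) [Field F] [Finite F] [CharP F r] :
    LS.{u, v, w} r ((Nat.card F - 1) * Nat.card F ^ 16) (chevE7.group F) := by
  have := (Cfsg.Agent.S1054.result (F := F) chevE7 (by simp)).1
  exact ls_of_ok (by simp [Cfsg.Agent.ChevalleyStructure.Elts.InList]) (ms := [1, -1]) (cs := [])
    (by simp) (by simp) ok

end Cfsg.Agent.H203.LS.E7
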