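import Cfsg.Agent.H203.LSChev
import Cfsg.Agent.S1054

/-!
# The Heisenberg bound for `E8(q)`, arbitrary kernels
-/

set_option autoImplicit false
set_option linter.dupNamespace false

universe u v w

namespace Cfsg.Agent.H203.LS.E8

open Cfsg.Lie Cfsg.Agent.H203.LS.Chev

/-- the pairs -/
def prs : List (ℕ × ℕ × ℤ) :=
  [(120, 238, 1), (122, 237, 1), (125, 236, 1), (129, 235, 1), (134, 234, 1), (140, 233, 1), (146, 232, 1),
   (151, 231, -1), (155, 230, 1), (158, 229, -1), (160, 228, 1), (161, 227, -1), (168, 225, 1), (173, 224, -1),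
   (177, 223, 1), (180, 222, -1), (182, 221, 1), (183, 220, -1), (187, 218, -1), (190, 217, 1), (192, 216, -1),
   (193, 215, 1), (196, 213, -1), (198, 212, 1), (199, 211, -1), (201, 209, -1), (202, 208, 1), (203, 206, -1)]

/-- the certificates for `X` and `A`, `B` -/
def cx : List (Cert × Cert) :=
  [(.dl 122 237 1, .dl 122 237 1), (.dl 120 238 1, .dl 120 238 1), (.dl 120 238 1, .dl 120 238 1),
   (.dl 120 238 1, .dl 120 238 1), (.dl 120 238 1, .dl 120 238 1), (.dl 120 238 1, .dl 120 238 1),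
   (.dl 120 238 1, .dl 120 238 1), (.dl 120 238 1, .dl 120 238 1), (.dl 120 238 1, .dl 120 238 1),
   (.dl 120 238 1, .dl 120 238 1), (.dl 120 238 1, .dl 120 238 1), (.dl 120 238 1, .dl 120 238 1),
   (.dl 120 238 1, .dl 120 238 1), (.dl 120 238 1, .dl 120 238 1), (.dl 120 238 1, .dl 120 238 1),
   (.dl 120 238 1, .dl 120 238 1), (.dl 120 238 1, .dl 120 238 1), (.dl 120 238 1, .dl 120 238 1),
   (.dl 120 238 1, .dl 120 238 1), (.dl 120 238 1, .dl 120 238 1), (.dl 120 238 1, .dl 120 238 1),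
   (.dl 120 238 1, .dl 120 238 1), (.dl 120 238 1, .dl 120 238 1), (.dl 120 238 1, .dl 120 238 1),
   (.dl 120 238 1, .dl 120 238 1), (.dl 120 238 1, .dl 120 238 1), (.dl 120 238 1, .dl 120 238 1),
   (.dl 120 238 1, .dl 120 238 1)]

/-- the certificates for `A`, `A` -/
def caa : List (List Cert) :=
  [[.dl 1 239 (-1)],
   [.dl 2 239 (-1), .dl 2 239 (-1)],
   [.dl 3 239 (-1), .dl 3 239 (-1), .dl 3 239 (-1)],
   [.dl 4 239 (-1), .dl 4 239 (-1), .dl 4 239 (-1), .dl 4 239 (-1)],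
   [.dl 5 239 (-1), .dl 5 239 (-1), .dl 5 239 (-1), .dl 5 239 (-1), .dl 5 239 (-1)],
   [.dl 6 239 (-1), .dl 6 239 (-1), .dl 6 239 (-1), .dl 6 239 (-1), .dl 6 239 (-1), .dl 6 239 (-1)],
   [.dl 7 239 (-1), .dl 7 239 (-1), .dl 7 239 (-1), .dl 7 239 (-1), .dl 7 239 (-1), .dl 20 225 1, .dl 7 239 (-1)],
   [.dl 8 239 1, .dl 8 239 1, .dl 8 239 1, .dl 8 239 1, .dl 25 225 (-1), .dl 8 239 1, .dl 8 239 1, .dl 8 239 1],
   [.dl 9 239 (-1), .dl 9 239 (-1), .dl 9 239 (-1), .dl 29 225 1, .dl 9 239 (-1), .dl 9 239 (-1), .dl 9 239 (-1),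
    .dl 9 239 (-1), .dl 9 239 (-1)],
   [.dl 10 239 1, .dl 10 239 1, .dl 32 225 (-1), .dl 10 239 1, .dl 10 239 1, .dl 10 239 1, .dl 10 239 1,
    .dl 10 239 1, .dl 10 239 1, .dl 10 239 1],
   [.dl 11 239 (-1), .dl 34 225 1, .dl 11 239 (-1), .dl 11 239 (-1), .dl 11 239 (-1), .dl 11 239 (-1),
    .dl 11 239 (-1), .dl 11 239 (-1), .dl 11 239 (-1), .dl 11 239 (-1), .dl 11 239 (-1)],
   [.dl 35 225 (-1), .dl 12 239 1, .dl 12 239 1, .dl 12 239 1, .dl 12 239 1, .dl 12 239 1, .dl 12 239 1,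
    .dl 12 239 1, .dl 12 239 1, .dl 12 239 1, .dl 12 239 1, .dl 12 239 1],
   [.dl 14 239 (-1), .dl 14 239 (-1), .dl 14 239 (-1), .dl 14 239 (-1), .dl 14 239 (-1), .dl 14 239 (-1),
    .dl 25 231 1, .dl 20 232 1, .dl 20 232 1, .dl 20 232 1, .dl 20 232 1, .dl 20 232 1, .dl 14 239 (-1)],
   [.dl 15 239 1, .dl 15 239 1, .dl 15 239 1, .dl 15 239 1, .dl 25 233 1, .dl 20 234 1, .dl 15 239 1,
    .dl 15 239 1, .dl 20 234 1, .dl 20 234 1, .dl 20 234 1, .dl 20 234 1, .dl 15 239 1, .dl 15 239 1],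
   [.dl 16 239 (-1), .dl 16 239 (-1), .dl 16 239 (-1), .dl 29 233 (-1), .dl 16 239 (-1), .dl 20 235 1,
    .dl 16 239 (-1), .dl 20 235 1, .dl 16 239 (-1), .dl 20 235 1, .dl 20 235 1, .dl 20 235 1, .dl 16 239 (-1),
    .dl 16 239 (-1), .dl 16 239 (-1)],
   [.dl 17 239 1, .dl 17 239 1, .dl 32 233 1, .dl 17 239 1, .dl 17 239 1, .dl 20 236 1, .dl 17 239 1,
    .dl 20 236 1, .dl 20 236 1, .dl 17 239 1, .dl 20 236 1, .dl 20 236 1, .dl 17 239 1, .dl 17 239 1,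
    .dl 17 239 1, .dl 17 239 1],
   [.dl 18 239 (-1), .dl 34 233 (-1), .dl 18 239 (-1), .dl 18 239 (-1), .dl 18 239 (-1), .dl 20 237 1,
    .dl 18 239 (-1), .dl 20 237 1, .dl 20 237 1, .dl 20 237 1, .dl 18 239 (-1), .dl 20 237 1, .dl 18 239 (-1),
    .dl 18 239 (-1), .dl 18 239 (-1), .dl 18 239 (-1), .dl 18 239 (-1)],
   [.dl 35 233 1, .dl 19 239 1, .dl 19 239 1, .dl 19 239 1, .dl 19 239 1, .dl 20 238 1, .dl 19 239 1,
    .dl 20 238 1, .dl 20 238 1, .dl 20 238 1, .dl 20 238 1, .dl 19 239 1, .dl 19 239 1, .dl 19 239 1,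
    .dl 19 239 1, .dl 19 239 1, .dl 19 239 1, .dl 19 239 1],
   [.dl 21 239 1, .dl 21 239 1, .dl 21 239 1, .dl 29 234 (-1), .dl 25 235 (-1), .dl 21 239 1, .dl 25 235 (-1),
    .dl 21 239 1, .dl 21 239 1, .dl 25 235 (-1), .dl 25 235 (-1), .dl 25 235 (-1), .dl 21 239 1, .dl 21 239 1,
    .dl 21 239 1, .dl 25 235 (-1), .dl 25 235 (-1), .dl 25 235 (-1), .dl 21 239 1],
   [.dl 22 239 (-1), .dl 22 239 (-1), .dl 32 234 1, .dl 22 239 (-1), .dl 25 236 (-1), .dl 22 239 (-1),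
    .dl 25 236 (-1), .dl 22 239 (-1), .dl 25 236 (-1), .dl 22 239 (-1), .dl 25 236 (-1), .dl 25 236 (-1),
    .dl 22 239 (-1), .dl 22 239 (-1), .dl 25 236 (-1), .dl 22 239 (-1), .dl 25 236 (-1), .dl 25 236 (-1),
    .dl 22 239 (-1), .dl 22 239 (-1)],
   [.dl 23 239 1, .dl 34 234 (-1), .dl 23 239 1, .dl 23 239 1, .dl 25 237 (-1), .dl 23 239 1, .dl 25 237 (-1),
    .dl 23 239 1, .dl 25 237 (-1), .dl 25 237 (-1), .dl 23 239 1, .dl 25 237 (-1), .dl 23 239 1, .dl 23 239 1,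
    .dl 25 237 (-1), .dl 25 237 (-1), .dl 23 239 1, .dl 25 237 (-1), .dl 23 239 1, .dl 23 239 1, .dl 23 239 1],
   [.dl 35 234 1, .dl 24 239 (-1), .dl 24 239 (-1), .dl 24 239 (-1), .dl 25 238 (-1), .dl 24 239 (-1),
    .dl 25 238 (-1), .dl 24 239 (-1), .dl 25 238 (-1), .dl 25 238 (-1), .dl 25 238 (-1), .dl 24 239 (-1),
    .dl 24 239 (-1), .dl 24 239 (-1), .dl 25 238 (-1), .dl 25 238 (-1), .dl 25 238 (-1), .dl 24 239 (-1),
    .dl 24 239 (-1), .dl 24 239 (-1), .dl 24 239 (-1), .dl 24 239 (-1)],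
   [.dl 26 239 1, .dl 26 239 1, .dl 32 235 1, .dl 29 236 1, .dl 26 239 1, .dl 26 239 1, .dl 29 236 1,
    .dl 29 236 1, .dl 26 239 1, .dl 26 239 1, .dl 29 236 1, .dl 29 236 1, .dl 26 239 1, .dl 29 236 1,
    .dl 26 239 1, .dl 26 239 1, .dl 29 236 1, .dl 29 236 1, .dl 26 239 1, .dl 26 239 1, .dl 29 236 1,
    .dl 29 236 1, .dl 26 239 1],
   [.dl 27 239 (-1), .dl 34 235 (-1), .dl 27 239 (-1), .dl 29 237 1, .dl 27 239 (-1), .dl 27 239 (-1),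
    .dl 29 237 1, .dl 29 237 1, .dl 27 239 (-1), .dl 29 237 1, .dl 27 239 (-1), .dl 29 237 1, .dl 27 239 (-1),
    .dl 29 237 1, .dl 27 239 (-1), .dl 29 237 1, .dl 27 239 (-1), .dl 29 237 1, .dl 27 239 (-1), .dl 29 237 1,
    .dl 27 239 (-1), .dl 29 237 1, .dl 27 239 (-1), .dl 27 239 (-1)],
   [.dl 35 235 1, .dl 28 239 1, .dl 28 239 1, .dl 29 238 1, .dl 28 239 1, .dl 28 239 1, .dl 29 238 1,
    .dl 29 238 1, .dl 28 239 1, .dl 29 238 1, .dl 29 238 1, .dl 28 239 1, .dl 28 239 1, .dl 29 238 1,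
    .dl 28 239 1, .dl 29 238 1, .dl 29 238 1, .dl 28 239 1, .dl 28 239 1, .dl 29 238 1, .dl 29 238 1,
    .dl 28 239 1, .dl 28 239 1, .dl 28 239 1, .dl 28 239 1],
   [.dl 30 239 1, .dl 34 236 (-1), .dl 32 237 (-1), .dl 30 239 1, .dl 30 239 1, .dl 30 239 1, .dl 32 237 (-1),
    .dl 32 237 (-1), .dl 32 237 (-1), .dl 30 239 1, .dl 30 239 1, .dl 32 237 (-1), .dl 30 239 1, .dl 32 237 (-1),
    .dl 32 237 (-1), .dl 30 239 1, .dl 30 239 1, .dl 32 237 (-1), .dl 32 237 (-1), .dl 30 239 1, .dl 30 239 1,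
    .dl 32 237 (-1), .dl 30 239 1, .dl 30 239 1, .dl 32 237 (-1), .dl 30 239 1],
   [.dl 35 236 1, .dl 31 239 (-1), .dl 32 238 (-1), .dl 31 239 (-1), .dl 31 239 (-1), .dl 31 239 (-1),
    .dl 32 238 (-1), .dl 32 238 (-1), .dl 32 238 (-1), .dl 31 239 (-1), .dl 32 238 (-1), .dl 31 239 (-1),
    .dl 31 239 (-1), .dl 32 238 (-1), .dl 32 238 (-1), .dl 31 239 (-1), .dl 32 238 (-1), .dl 31 239 (-1),
    .dl 32 238 (-1), .dl 31 239 (-1), .dl 32 238 (-1), .dl 31 239 (-1), .dl 31 239 (-1), .dl 32 238 (-1),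
    .dl 31 239 (-1), .dl 31 239 (-1), .dl 31 239 (-1)],
   [.dl 35 237 1, .dl 34 238 1, .dl 33 239 1, .dl 33 239 1, .dl 33 239 1, .dl 33 239 1, .dl 34 238 1,
    .dl 34 238 1, .dl 34 238 1, .dl 34 238 1, .dl 33 239 1, .dl 33 239 1, .dl 33 239 1, .dl 34 238 1,
    .dl 34 238 1, .dl 34 238 1, .dl 33 239 1, .dl 33 239 1, .dl 34 238 1, .dl 34 238 1, .dl 33 239 1,
    .dl 33 239 1, .dl 34 238 1, .dl 33 239 1, .dl 33 239 1, .dl 33 239 1, .dl 33 239 1, .dl 33 239 1]]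

/-- the certificates for `B`, `A` -/
def cba : List (List Cert) :=
  [[.tr 0 0, .dl 124 236 1, .dl 121 237 1, .dl 121 237 1, .dl 121 237 1, .dl 121 237 1, .dl 121 237 1,
    .dl 121 237 1, .dl 121 237 1, .dl 121 237 1, .dl 124 236 1, .dl 119 239 1, .dl 121 237 1, .dl 121 237 1,
    .dl 121 237 1, .dl 121 237 1, .dl 124 236 1, .dl 119 239 1, .dl 121 237 1, .dl 121 237 1, .dl 124 236 1,
    .dl 119 239 1, .dl 121 237 1, .dl 124 236 1, .dl 119 239 1, .dl 128 235 1, .dl 119 239 1, .dl 119 239 1],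
   [.dl 123 236 1, .tr 0 0, .dl 118 238 1, .dl 118 238 1, .dl 118 238 1, .dl 118 238 1, .dl 118 238 1,
    .dl 118 238 1, .dl 118 238 1, .dl 118 238 1, .dl 117 239 1, .dl 123 236 1, .dl 118 238 1, .dl 118 238 1,
    .dl 118 238 1, .dl 118 238 1, .dl 117 239 1, .dl 123 236 1, .dl 118 238 1, .dl 118 238 1, .dl 117 239 1,
    .dl 123 236 1, .dl 118 238 1, .dl 117 239 1, .dl 123 236 1, .dl 117 239 1, .dl 127 235 1, .dl 117 239 1],
   [.dl 116 237 1, .dl 115 238 1, .tr 0 0, .dl 115 238 1, .dl 115 238 1, .dl 115 238 1, .dl 115 238 1,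
    .dl 115 238 1, .dl 115 238 1, .dl 114 239 1, .dl 115 238 1, .dl 116 237 1, .dl 115 238 1, .dl 115 238 1,
    .dl 115 238 1, .dl 114 239 1, .dl 115 238 1, .dl 116 237 1, .dl 115 238 1, .dl 114 239 1, .dl 115 238 1,
    .dl 116 237 1, .dl 114 239 1, .dl 115 238 1, .dl 116 237 1, .dl 114 239 1, .dl 114 239 1, .dl 126 235 1],
   [.dl 112 237 1, .dl 111 238 1, .dl 111 238 1, .tr 0 0, .dl 111 238 1, .dl 111 238 1, .dl 111 238 1,
    .dl 111 238 1, .dl 110 239 1, .dl 111 238 1, .dl 111 238 1, .dl 112 237 1, .dl 111 238 1, .dl 111 238 1,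
    .dl 110 239 1, .dl 111 238 1, .dl 111 238 1, .dl 112 237 1, .dl 110 239 1, .dl 111 238 1, .dl 111 238 1,
    .dl 112 237 1, .dl 110 239 1, .dl 110 239 1, .dl 110 239 1, .dl 111 238 1, .dl 112 237 1, .dl 113 236 1],
   [.dl 107 237 1, .dl 106 238 1, .dl 106 238 1, .dl 106 238 1, .tr 0 0, .dl 106 238 1, .dl 106 238 1,
    .dl 105 239 1, .dl 106 238 1, .dl 106 238 1, .dl 106 238 1, .dl 107 237 1, .dl 106 238 1, .dl 105 239 1,
    .dl 106 238 1, .dl 106 238 1, .dl 106 238 1, .dl 107 237 1, .dl 105 239 1, .dl 105 239 1, .dl 105 239 1,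
    .dl 105 239 1, .dl 106 238 1, .dl 106 238 1, .dl 107 237 1, .dl 106 238 1, .dl 107 237 1, .dl 108 236 1],
   [.dl 101 237 1, .dl 100 238 1, .dl 100 238 1, .dl 100 238 1, .dl 100 238 1, .tr 0 0, .dl 99 239 1,
    .dl 100 238 1, .dl 100 238 1, .dl 100 238 1, .dl 100 238 1, .dl 101 237 1, .dl 100 238 1, .dl 99 239 1,
    .dl 99 239 1, .dl 99 239 1, .dl 99 239 1, .dl 99 239 1, .dl 100 238 1, .dl 100 238 1, .dl 100 238 1,
    .dl 101 237 1, .dl 100 238 1, .dl 100 238 1, .dl 101 237 1, .dl 100 238 1, .dl 101 237 1, .dl 102 236 1],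
   [.dl 95 237 1, .dl 94 238 1, .dl 94 238 1, .dl 94 238 1, .dl 94 238 1, .dl 93 239 1, .tr 0 0, .dl 94 238 1,
    .dl 94 238 1, .dl 94 238 1, .dl 94 238 1, .dl 95 237 1, .dl 93 239 1, .dl 94 238 1, .dl 94 238 1,
    .dl 94 238 1, .dl 94 238 1, .dl 95 237 1, .dl 93 239 1, .dl 93 239 1, .dl 93 239 1, .dl 93 239 1,
    .dl 93 239 1, .dl 93 239 1, .dl 93 239 1, .dl 93 239 1, .dl 93 239 1, .dl 93 239 1],
   [.dl 90 237 (-1), .dl 89 238 (-1), .dl 89 238 (-1), .dl 89 238 (-1), .dl 88 239 (-1), .dl 89 238 (-1),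
    .dl 89 238 (-1), .tr 0 0, .dl 89 238 (-1), .dl 89 238 (-1), .dl 89 238 (-1), .dl 90 237 (-1),
    .dl 88 239 (-1), .dl 89 238 (-1), .dl 88 239 (-1), .dl 88 239 (-1), .dl 88 239 (-1), .dl 88 239 (-1),
    .dl 89 238 (-1), .dl 89 238 (-1), .dl 89 238 (-1), .dl 90 237 (-1), .dl 88 239 (-1), .dl 88 239 (-1),
    .dl 88 239 (-1), .dl 88 239 (-1), .dl 88 239 (-1), .dl 88 239 (-1)],
   [.dl 86 237 1, .dl 85 238 1, .dl 85 238 1, .dl 84 239 1, .dl 85 238 1, .dl 85 238 1, .dl 85 238 1,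
    .dl 85 238 1, .tr 0 0, .dl 85 238 1, .dl 85 238 1, .dl 86 237 1, .dl 84 239 1, .dl 84 239 1, .dl 85 238 1,
    .dl 84 239 1, .dl 84 239 1, .dl 84 239 1, .dl 85 238 1, .dl 84 239 1, .dl 84 239 1, .dl 84 239 1,
    .dl 85 238 1, .dl 85 238 1, .dl 86 237 1, .dl 84 239 1, .dl 84 239 1, .dl 84 239 1],
   [.dl 83 237 (-1), .dl 82 238 (-1), .dl 81 239 (-1), .dl 82 238 (-1), .dl 82 238 (-1), .dl 82 238 (-1),
    .dl 82 238 (-1), .dl 82 238 (-1), .dl 82 238 (-1), .tr 0 0, .dl 82 238 (-1), .dl 83 237 (-1),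
    .dl 81 239 (-1), .dl 81 239 (-1), .dl 81 239 (-1), .dl 82 238 (-1), .dl 81 239 (-1), .dl 81 239 (-1),
    .dl 81 239 (-1), .dl 82 238 (-1), .dl 81 239 (-1), .dl 81 239 (-1), .dl 82 238 (-1), .dl 81 239 (-1),
    .dl 81 239 (-1), .dl 82 238 (-1), .dl 83 237 (-1), .dl 81 239 (-1)],
   [.dl 83 236 (-1), .dl 79 239 1, .dl 80 238 1, .dl 80 238 1, .dl 80 238 1, .dl 80 238 1, .dl 80 238 1,
    .dl 80 238 1, .dl 80 238 1, .dl 80 238 1, .tr 0 0, .dl 83 236 (-1), .dl 79 239 1, .dl 79 239 1, .dl 79 239 1,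
    .dl 79 239 1, .dl 80 238 1, .dl 79 239 1, .dl 79 239 1, .dl 79 239 1, .dl 80 238 1, .dl 79 239 1,
    .dl 79 239 1, .dl 80 238 1, .dl 79 239 1, .dl 80 238 1, .dl 79 239 1, .dl 83 236 (-1)],
   [.dl 78 239 (-1), .dl 82 236 1, .dl 80 237 1, .dl 80 237 1, .dl 80 237 1, .dl 80 237 1, .dl 80 237 1,
    .dl 80 237 1, .dl 80 237 1, .dl 80 237 1, .dl 82 236 1, .tr 0 0, .dl 78 239 (-1), .dl 78 239 (-1),
    .dl 78 239 (-1), .dl 78 239 (-1), .dl 78 239 (-1), .dl 80 237 1, .dl 78 239 (-1), .dl 78 239 (-1),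
    .dl 78 239 (-1), .dl 80 237 1, .dl 78 239 (-1), .dl 78 239 (-1), .dl 80 237 1, .dl 78 239 (-1), .dl 80 237 1,
    .dl 82 236 1],
   [.dl 73 237 1, .dl 72 238 1, .dl 72 238 1, .dl 72 238 1, .dl 72 238 1, .dl 72 238 1, .dl 71 239 1,
    .dl 71 239 1, .dl 71 239 1, .dl 71 239 1, .dl 71 239 1, .dl 71 239 1, .tr 0 0, .dl 72 238 1, .dl 72 238 1,
    .dl 72 238 1, .dl 72 238 1, .dl 73 237 1, .dl 72 238 1, .dl 72 238 1, .dl 72 238 1, .dl 73 237 1,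
    .dl 72 238 1, .dl 72 238 1, .dl 73 237 1, .dl 72 238 1, .dl 73 237 1, .dl 74 236 1],
   [.dl 68 237 (-1), .dl 67 238 (-1), .dl 67 238 (-1), .dl 67 238 (-1), .dl 66 239 (-1), .dl 66 239 (-1),
    .dl 67 238 (-1), .dl 67 238 (-1), .dl 66 239 (-1), .dl 66 239 (-1), .dl 66 239 (-1), .dl 66 239 (-1),
    .dl 67 238 (-1), .tr 0 0, .dl 67 238 (-1), .dl 67 238 (-1), .dl 67 238 (-1), .dl 68 237 (-1),
    .dl 67 238 (-1), .dl 67 238 (-1), .dl 67 238 (-1), .dl 68 237 (-1), .dl 66 239 (-1), .dl 66 239 (-1),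
    .dl 66 239 (-1), .dl 66 239 (-1), .dl 66 239 (-1), .dl 66 239 (-1)],
   [.dl 64 237 1, .dl 63 238 1, .dl 63 238 1, .dl 62 239 1, .dl 63 238 1, .dl 62 239 1, .dl 63 238 1,
    .dl 62 239 1, .dl 63 238 1, .dl 62 239 1, .dl 62 239 1, .dl 62 239 1, .dl 63 238 1, .dl 63 238 1, .tr 0 0,
    .dl 63 238 1, .dl 63 238 1, .dl 64 237 1, .dl 63 238 1, .dl 62 239 1, .dl 62 239 1, .dl 62 239 1,
    .dl 63 238 1, .dl 63 238 1, .dl 64 237 1, .dl 62 239 1, .dl 62 239 1, .dl 62 239 1],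
   [.dl 61 237 (-1), .dl 60 238 (-1), .dl 59 239 (-1), .dl 60 238 (-1), .dl 60 238 (-1), .dl 59 239 (-1),
    .dl 60 238 (-1), .dl 59 239 (-1), .dl 59 239 (-1), .dl 60 238 (-1), .dl 59 239 (-1), .dl 59 239 (-1),
    .dl 60 238 (-1), .dl 60 238 (-1), .dl 60 238 (-1), .tr 0 0, .dl 60 238 (-1), .dl 61 237 (-1),
    .dl 59 239 (-1), .dl 60 238 (-1), .dl 59 239 (-1), .dl 59 239 (-1), .dl 60 238 (-1), .dl 59 239 (-1),
    .dl 59 239 (-1), .dl 60 238 (-1), .dl 61 237 (-1), .dl 59 239 (-1)],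
   [.dl 61 236 (-1), .dl 57 239 1, .dl 58 238 1, .dl 58 238 1, .dl 58 238 1, .dl 57 239 1, .dl 58 238 1,
    .dl 57 239 1, .dl 57 239 1, .dl 57 239 1, .dl 58 238 1, .dl 57 239 1, .dl 58 238 1, .dl 58 238 1,
    .dl 58 238 1, .dl 58 238 1, .tr 0 0, .dl 61 236 (-1), .dl 57 239 1, .dl 57 239 1, .dl 58 238 1, .dl 57 239 1,
    .dl 57 239 1, .dl 58 238 1, .dl 57 239 1, .dl 58 238 1, .dl 57 239 1, .dl 61 236 (-1)],
   [.dl 56 239 (-1), .dl 60 236 1, .dl 58 237 1, .dl 58 237 1, .dl 58 237 1, .dl 56 239 (-1), .dl 58 237 1,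
    .dl 56 239 (-1), .dl 56 239 (-1), .dl 56 239 (-1), .dl 56 239 (-1), .dl 58 237 1, .dl 58 237 1, .dl 58 237 1,
    .dl 58 237 1, .dl 58 237 1, .dl 60 236 1, .tr 0 0, .dl 56 239 (-1), .dl 56 239 (-1), .dl 56 239 (-1),
    .dl 58 237 1, .dl 56 239 (-1), .dl 56 239 (-1), .dl 58 237 1, .dl 56 239 (-1), .dl 58 237 1, .dl 60 236 1],
   [.dl 54 237 (-1), .dl 53 238 (-1), .dl 53 238 (-1), .dl 52 239 (-1), .dl 52 239 (-1), .dl 53 238 (-1),
    .dl 52 239 (-1), .dl 53 238 (-1), .dl 53 238 (-1), .dl 52 239 (-1), .dl 52 239 (-1), .dl 52 239 (-1),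
    .dl 53 238 (-1), .dl 53 238 (-1), .dl 53 238 (-1), .dl 52 239 (-1), .dl 52 239 (-1), .dl 52 239 (-1),
    .tr 0 0, .dl 53 238 (-1), .dl 53 238 (-1), .dl 54 237 (-1), .dl 53 238 (-1), .dl 53 238 (-1),
    .dl 54 237 (-1), .dl 52 239 (-1), .dl 52 239 (-1), .dl 52 239 (-1)],
   [.dl 51 237 1, .dl 50 238 1, .dl 49 239 1, .dl 50 238 1, .dl 49 239 1, .dl 50 238 1, .dl 49 239 1,
    .dl 50 238 1, .dl 49 239 1, .dl 50 238 1, .dl 49 239 1, .dl 49 239 1, .dl 50 238 1, .dl 50 238 1,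
    .dl 49 239 1, .dl 50 238 1, .dl 49 239 1, .dl 49 239 1, .dl 50 238 1, .tr 0 0, .dl 50 238 1, .dl 51 237 1,
    .dl 50 238 1, .dl 49 239 1, .dl 49 239 1, .dl 50 238 1, .dl 51 237 1, .dl 49 239 1],
   [.dl 51 236 1, .dl 47 239 (-1), .dl 48 238 (-1), .dl 48 238 (-1), .dl 47 239 (-1), .dl 48 238 (-1),
    .dl 47 239 (-1), .dl 48 238 (-1), .dl 47 239 (-1), .dl 47 239 (-1), .dl 48 238 (-1), .dl 47 239 (-1),
    .dl 48 238 (-1), .dl 48 238 (-1), .dl 47 239 (-1), .dl 47 239 (-1), .dl 48 238 (-1), .dl 47 239 (-1),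
    .dl 48 238 (-1), .dl 48 238 (-1), .tr 0 0, .dl 51 236 1, .dl 47 239 (-1), .dl 48 238 (-1), .dl 47 239 (-1),
    .dl 48 238 (-1), .dl 47 239 (-1), .dl 51 236 1],
   [.dl 46 239 1, .dl 50 236 (-1), .dl 48 237 (-1), .dl 48 237 (-1), .dl 46 239 1, .dl 48 237 (-1), .dl 46 239 1,
    .dl 48 237 (-1), .dl 46 239 1, .dl 46 239 1, .dl 46 239 1, .dl 48 237 (-1), .dl 48 237 (-1), .dl 48 237 (-1),
    .dl 46 239 1, .dl 46 239 1, .dl 46 239 1, .dl 48 237 (-1), .dl 48 237 (-1), .dl 48 237 (-1), .dl 50 236 (-1),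
    .tr 0 0, .dl 46 239 1, .dl 46 239 1, .dl 48 237 (-1), .dl 46 239 1, .dl 48 237 (-1), .dl 50 236 (-1)],
   [.dl 45 237 (-1), .dl 44 238 (-1), .dl 43 239 (-1), .dl 43 239 (-1), .dl 44 238 (-1), .dl 44 238 (-1),
    .dl 43 239 (-1), .dl 43 239 (-1), .dl 44 238 (-1), .dl 44 238 (-1), .dl 43 239 (-1), .dl 43 239 (-1),
    .dl 44 238 (-1), .dl 43 239 (-1), .dl 44 238 (-1), .dl 44 238 (-1), .dl 43 239 (-1), .dl 43 239 (-1),
    .dl 44 238 (-1), .dl 44 238 (-1), .dl 43 239 (-1), .dl 43 239 (-1), .tr 0 0, .dl 44 238 (-1),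
    .dl 45 237 (-1), .dl 44 238 (-1), .dl 45 237 (-1), .dl 43 239 (-1)],
   [.dl 45 236 (-1), .dl 41 239 1, .dl 42 238 1, .dl 41 239 1, .dl 42 238 1, .dl 42 238 1, .dl 41 239 1,
    .dl 41 239 1, .dl 42 238 1, .dl 41 239 1, .dl 42 238 1, .dl 41 239 1, .dl 42 238 1, .dl 41 239 1,
    .dl 42 238 1, .dl 41 239 1, .dl 42 238 1, .dl 41 239 1, .dl 42 238 1, .dl 41 239 1, .dl 42 238 1,
    .dl 41 239 1, .dl 42 238 1, .tr 0 0, .dl 45 236 (-1), .dl 42 238 1, .dl 41 239 1, .dl 45 236 (-1)],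
   [.dl 40 239 (-1), .dl 44 236 1, .dl 42 237 1, .dl 40 239 (-1), .dl 42 237 1, .dl 42 237 1, .dl 40 239 (-1),
    .dl 40 239 (-1), .dl 42 237 1, .dl 40 239 (-1), .dl 40 239 (-1), .dl 42 237 1, .dl 42 237 1, .dl 40 239 (-1),
    .dl 42 237 1, .dl 40 239 (-1), .dl 40 239 (-1), .dl 42 237 1, .dl 42 237 1, .dl 40 239 (-1), .dl 40 239 (-1),
    .dl 42 237 1, .dl 42 237 1, .dl 44 236 1, .tr 0 0, .dl 40 239 (-1), .dl 42 237 1, .dl 44 236 1],
   [.dl 45 235 (-1), .dl 38 239 (-1), .dl 38 239 (-1), .dl 39 238 (-1), .dl 39 238 (-1), .dl 39 238 (-1),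
    .dl 38 239 (-1), .dl 38 239 (-1), .dl 38 239 (-1), .dl 39 238 (-1), .dl 39 238 (-1), .dl 38 239 (-1),
    .dl 39 238 (-1), .dl 38 239 (-1), .dl 38 239 (-1), .dl 39 238 (-1), .dl 39 238 (-1), .dl 38 239 (-1),
    .dl 38 239 (-1), .dl 39 238 (-1), .dl 39 238 (-1), .dl 38 239 (-1), .dl 39 238 (-1), .dl 39 238 (-1),
    .dl 38 239 (-1), .tr 0 0, .dl 45 235 (-1), .dl 45 235 (-1)],
   [.dl 37 239 1, .dl 44 235 1, .dl 37 239 1, .dl 39 237 (-1), .dl 39 237 (-1), .dl 39 237 (-1), .dl 37 239 1,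
    .dl 37 239 1, .dl 37 239 1, .dl 39 237 (-1), .dl 37 239 1, .dl 39 237 (-1), .dl 39 237 (-1), .dl 37 239 1,
    .dl 37 239 1, .dl 39 237 (-1), .dl 37 239 1, .dl 39 237 (-1), .dl 37 239 1, .dl 39 237 (-1), .dl 37 239 1,
    .dl 39 237 (-1), .dl 39 237 (-1), .dl 37 239 1, .dl 39 237 (-1), .dl 44 235 1, .tr 0 0, .dl 44 235 1],
   [.dl 36 239 (-1), .dl 36 239 (-1), .dl 42 235 (-1), .dl 39 236 (-1), .dl 39 236 (-1), .dl 39 236 (-1),
    .dl 36 239 (-1), .dl 36 239 (-1), .dl 36 239 (-1), .dl 36 239 (-1), .dl 39 236 (-1), .dl 39 236 (-1),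
    .dl 39 236 (-1), .dl 36 239 (-1), .dl 36 239 (-1), .dl 36 239 (-1), .dl 39 236 (-1), .dl 39 236 (-1),
    .dl 36 239 (-1), .dl 36 239 (-1), .dl 39 236 (-1), .dl 39 236 (-1), .dl 36 239 (-1), .dl 39 236 (-1),
    .dl 39 236 (-1), .dl 42 235 (-1), .dl 42 235 (-1), .tr 0 0]]

/-- the ties -/
def ties : List (ℕ × Bool × ℕ × ℤ × ℤ) :=
  [(0, true, 0, 0, 0), (0, true, 121, 1, -1), (0, true, 124, 1, -1), (0, true, 128, 1, -1),
   (0, true, 133, 1, -1), (0, true, 139, 1, -1), (0, true, 145, 1, -1), (0, true, 150, 1, 1),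
   (0, true, 154, 1, -1), (0, true, 157, 1, 1), (0, true, 159, 1, -1), (1, true, 159, -1, -1),
   (0, true, 167, 1, -1), (0, true, 172, 1, 1), (0, true, 176, 1, -1), (0, true, 179, 1, 1),
   (0, true, 181, 1, -1), (1, true, 181, -1, -1), (0, true, 186, 1, 1), (0, true, 189, 1, -1),
   (0, true, 191, 1, 1), (1, true, 191, -1, 1), (0, true, 195, 1, 1), (0, true, 197, 1, -1),
   (1, true, 197, -1, -1), (0, true, 200, 1, 1), (1, true, 200, -1, 1), (2, true, 200, 1, 1)]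

/-- the data -/
def dat : Dat := ⟨239, 7, prs, .dl 120 238 1, cx, caa, cba, ties⟩

theorem chkH : dat.chkH chevE8 [1, -1] [] = true := by decide +kernel
theorem rowS_0 : dat.rowS chevE8 [1, -1] [] 0 14 = true := by decide +kernel
theorem rowS_14 : dat.rowS chevE8 [1, -1] [] 14 14 = true := by decide +kernel
theorem rowT_0 : dat.rowT chevE8 0 14 = true := by decide +kernel
theorem rowT_14 : dat.rowT chevE8 14 13 = true := by decide +kernel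
theorem rowA_0 : dat.rowA chevE8 [1, -1] [] 0 7 = true := by decide +kernel
theorem rowA_7 : dat.rowA chevE8 [1, -1] [] 7 7 = true := by decide +kernel
theorem rowA_14 : dat.rowA chevE8 [1, -1] [] 14 7 = true := by decide +kernel
theorem rowA_21 : dat.rowA chevE8 [1, -1] [] 21 7 = true := by decide +kernel
theorem rowB_0 : dat.rowB chevE8 [1, -1] [] 0 4 = true := by decide +kernel
theorem rowB_4 : dat.rowB chevE8 [1, -1] [] 4 4 = true := by decide +kernel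
theorem rowB_8 : dat.rowB chevE8 [1, -1] [] 8 4 = true := by decide +kernel
theorem rowB_12 : dat.rowB chevE8 [1, -1] [] 12 4 = true := by decide +kernel
theorem rowB_16 : dat.rowB chevE8 [1, -1] [] 16 4 = true := by decide +kernel
theorem rowB_20 : dat.rowB chevE8 [1, -1] [] 20 4 = true := by decide +kernel
theorem rowB_24 : dat.rowB chevE8 [1, -1] [] 24 4 = true := by decide +kernel

theorem ok : dat.Ok chevE8 [1, -1] [] := by
  refine ⟨chkH, fun i hi => ?_, fun i hi hi0 => ?_, fun i hi j hj => ?_, fun i hi j hj hij => ?_⟩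
  · have hi' : i < 28 := hi
    by_cases h0 : i < 14
    · exact Dat.rowS_get _ _ _ _ rowS_0 (by omega) (by omega)
    exact Dat.rowS_get _ _ _ _ rowS_14 (by omega) (by omega)
  · have hi' : i < 28 := hi
    by_cases h0 : i < 15
    · exact Dat.rowT_get _ _ rowT_0 (by omega) (by omega)
    exact Dat.rowT_get _ _ rowT_14 (by omega) (by omega)
  · have hi' : i < 28 := hi
    by_cases h0 : i < 7
    · exact Dat.rowA_get _ _ _ _ rowA_0 (by omega) (by omega) hj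
    by_cases h1 : i < 14
    · exact Dat.rowA_get _ _ _ _ rowA_7 (by omega) (by omega) hj
    by_cases h2 : i < 21
    · exact Dat.rowA_get _ _ _ _ rowA_14 (by omega) (by omega) hj
    exact Dat.rowA_get _ _ _ _ rowA_21 (by omega) (by omega) hj
  · have hi' : i < 28 := hi
    by_cases h0 : i < 4
    · exact Dat.rowB_get _ _ _ _ rowB_0 (by omega) (by omega) hj hij
    by_cases h1 : i < 8
    · exact Dat.rowB_get _ _ _ _ rowB_4 (by omega) (by omega) hj hij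
    by_cases h2 : i < 12
    · exact Dat.rowB_get _ _ _ _ rowB_8 (by omega) (by omega) hj hij
    by_cases h3 : i < 16
    · exact Dat.rowB_get _ _ _ _ rowB_12 (by omega) (by omega) hj hij
    by_cases h4 : i < 20
    · exact Dat.rowB_get _ _ _ _ rowB_16 (by omega) (by omega) hj hij
    by_cases h5 : i < 24
    · exact Dat.rowB_get _ _ _ _ rowB_20 (by omega) (by omega) hj hij
    exact Dat.rowB_get _ _ _ _ rowB_24 (by omega) (by omega) hj hij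

/-- **`LS` for `E8(q)`: `(q - 1) q ^ 28`.** -/
theorem ls {r : ℕ} (F : Type u) [Field F] [Finite F] [CharP F r] :
    LS.{u, v, w} r ((Nat.card F - 1) * Nat.card F ^ 28) (chevE8.group F) := by
  have := (Cfsg.Agent.S1054.result (F := F) chevE8 (by simp)).1
  exact ls_of_ok (by simp [Cfsg.Agent.ChevalleyStructure.Elts.InList]) (ms := [1, -1]) (cs := [])
    (by simp) (by simp) ok

end Cfsg.Agent.H203.LS.E8
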