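import Cfsg.Agent.H203.LSChev
import Cfsg.Agent.S1054

/-!
# The Heisenberg bound for `F4(q)`, `q > 2` even, arbitrary kernels
-/

set_option autoImplicit false
set_option linter.dupNamespace false

universe u v w

namespace Cfsg.Agent.H203.LS.F4even

open Cfsg.Lie Cfsg.Agent.H203.LS.Chev

/-- the pairs -/
def prs : List (ℕ × ℕ × ℤ) :=
  [(24, 46, 1), (26, 45, 1), (31, 43, -1), (32, 42, 1)]

/-- the certificates for `X` and `A`, `B` -/
def cx : List (Cert × Cert) :=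
  [(.dl 26 45 1, .dl 26 45 1), (.dl 24 46 1, .dl 24 46 1), (.dl 24 46 1, .dl 24 46 1),
   (.dl 24 46 1, .dl 24 46 1)]

/-- the certificates for `A`, `A` -/
def caa : List (List Cert) :=
  [[.dl 1 47 (-1)],
   [.dl 2 47 (-1), .dl 2 47 (-1)],
   [.dl 4 47 1, .tl 0 (-2), .dl 4 47 1],
   [.tr 3 2, .dl 5 47 (-1), .dl 5 47 (-1), .dl 5 47 (-1)]]

/-- the certificates for `B`, `A` -/
def cba : List (List Cert) :=
  [[.tr 0 0, .tr 1 (-2), .tr 0 (-2), .dl 23 47 1],
   [.tr 3 2, .tr 0 0, .dl 21 47 1, .tr 0 (-2)],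
   [.tr 3 2, .dl 16 47 (-1), .tr 0 0, .tl 1 (-2)],
   [.dl 15 47 1, .tr 1 (-2), .tr 1 2, .tr 0 0]]

/-- the ties -/
def ties : List (ℕ × Bool × ℕ × ℤ × ℤ) :=
  [(0, true, 0, 0, 0), (0, true, 25, 1, -1), (0, true, 30, 1, 1), (1, true, 30, -1, 1)]

/-- the data -/
def dat : Dat := ⟨47, 3, prs, .dl 24 46 1, cx, caa, cba, ties⟩

theorem chkH : dat.chkH chevF4 [1, -1] [1, -1, 2, -2] = true := by decide +kernel
theorem rowS_0 : dat.rowS chevF4 [1, -1] [1, -1, 2, -2] 0 4 = true := by decide +kernel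
theorem rowT_0 : dat.rowT chevF4 0 3 = true := by decide +kernel
theorem rowA_0 : dat.rowA chevF4 [1, -1] [1, -1, 2, -2] 0 4 = true := by decide +kernel
theorem rowB_0 : dat.rowB chevF4 [1, -1] [1, -1, 2, -2] 0 4 = true := by decide +kernel

theorem ok : dat.Ok chevF4 [1, -1] [1, -1, 2, -2] := by
  refine ⟨chkH, fun i hi => ?_, fun i hi hi0 => ?_, fun i hi j hj => ?_, fun i hi j hj hij => ?_⟩
  · have hi' : i < 4 := hi
    exact Dat.rowS_get _ _ _ _ rowS_0 (by omega) (by omega)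
  · have hi' : i < 4 := hi
    exact Dat.rowT_get _ _ rowT_0 (by omega) (by omega)
  · have hi' : i < 4 := hi
    exact Dat.rowA_get _ _ _ _ rowA_0 (by omega) (by omega) hj
  · have hi' : i < 4 := hi
    exact Dat.rowB_get _ _ _ _ rowB_0 (by omega) (by omega) hj hij

/-- **`LS` for `F4(q)`, `q > 2` even: `(q - 1) q ^ 4`.** -/
theorem ls_even {r : ℕ} (F : Type u) [Field F] [Finite F] [CharP F r] (h2 : (2 : F) = 0) (hF : 2 < Nat.card F) :
    LS.{u, v, w} r ((Nat.card F - 1) * Nat.card F ^ 4) (chevF4.group F) := by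
  have := (Cfsg.Agent.S1054.result (F := F) chevF4 (by simp)).1
  refine ls_of_ok (by simp [Cfsg.Agent.ChevalleyStructure.Elts.InList]) (ms := [1, -1]) (cs := [1, -1, 2, -2])
    (by simp) ?_ ok
  obtain ⟨z, hz0, hz1⟩ : ∃ z : F, z ≠ 0 ∧ z ≠ 1 := by
    by_contra hcon
    push Not at hcon
    have h3 : (Set.univ : Set F) ⊆ ({0, 1} : Set F) := fun z _ => by
      by_cases hz : z = 0
      · left; exact hz
      · right; exact hcon z hz
    have h4 := Set.ncard_le_ncard h3 (Set.toFinite _)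
    rw [Set.ncard_univ, Set.ncard_pair zero_ne_one] at h4
    omega
  have hz2 : z ^ 2 ≠ 1 := by
    intro h
    have h3 : (z - 1) ^ 2 = 0 := by
      have : (z - 1) ^ 2 = z ^ 2 - 1 + 2 * (1 - z) := by ring
      rw [this, h, h2]; ring
    exact hz1 (sub_eq_zero.1 (pow_eq_zero_iff (two_ne_zero)|>.1 h3))
  intro c hc
  refine ⟨z, hz0, ?_⟩
  simp only [List.mem_cons, List.not_mem_nil, or_false] at hc
  rcases hc with rfl | rfl | rfl | rfl
  · rwa [zpow_one]
  · rwa [zpow_neg_one, ne_eq, inv_eq_one]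
  · exact_mod_cast hz2
  · rw [zpow_neg, ne_eq, inv_eq_one]
    exact_mod_cast hz2

end Cfsg.Agent.H203.LS.F4even
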