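import Cfsg.Agent.H203.LSHeisG

/-!
# The tie relation from the torus

`hat_torus`: `[A a, B b] = X (a b)`, torus elements `A a ↦ A (t a)`, `B b ↦ B (t⁻¹ b)` for `t` in a set of ring generators of
the field: in every central extension `[A' a, B' b] = X' (a b)`.
-/

set_option autoImplicit false
set_option linter.dupNamespace false
set_option linter.style.haveILetI false

universe u v w u' w'

namespace Cfsg.Agent.H203.LS

/-- A power with the same action and of order prime to `r`. -/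
theorem exists_pow_coprime {T : Type u} [Group T] [Finite T] (r : ℕ) (hr : r.Prime) (h : T) {N : ℕ} (hN : r.Coprime N) :
    ∃ n m : ℕ, n ≡ 1 [MOD N] ∧ r.Coprime m ∧ (h ^ n) ^ m = 1 := by
  obtain ⟨e, m, hm, hem⟩ := Nat.exists_eq_pow_mul_and_not_dvd (orderOf_pos h).ne' r hr.ne_one
  have hc : (r ^ e).Coprime N := Nat.Coprime.pow_left e hN
  obtain ⟨n, hn1, hn2⟩ := Nat.chineseRemainder hc 0 1
  refine ⟨n, m, hn2, (Nat.Prime.coprime_iff_not_dvd hr).2 hm, ?_⟩
  obtain ⟨c, hc⟩ := (Nat.modEq_zero_iff_dvd.1 hn1)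
  rw [← pow_mul, hc, ← orderOf_dvd_iff_pow_eq_one, hem]
  exact ⟨c, by ring⟩

section

variable {P : Type v} {T : Type u} [Group P] [Group T] {π : P →* T} {F : Type w'} [Field F] {X A B : F → T}

/-- **The lift of `X` from the torus**, `B` additive up to elements commuting with the `A a`. -/
theorem hat_torus' [Finite T] [Finite F] {r : ℕ} (hr : r.Prime) [CharP F r] (hπ : Function.Surjective π)
    (hc : π.ker ≤ Subgroup.center P)
    (hA : ∀ s t, A (s + t) = A s * A t)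
    (hB : ∀ s t, ∃ c : T, B s * B t = B (s + t) * c ∧ ∀ a, SC.{u, v} c (A a))
    (hAB : ∀ a b, A a * B b * (A a)⁻¹ * (B b)⁻¹ = X (a * b))
    (XA : ∀ s a, SC.{u, v} (X s) (A a)) (XB : ∀ s b, SC.{u, v} (X s) (B b))
    {S : Set F} (hS : Subring.closure S = ⊤) (hSt : ∀ t ∈ S, t ≠ 0 ∧ ∃ h : T, (∀ a, h * A a * h⁻¹ = A (t * a)) ∧
      ∀ b, h * B b * h⁻¹ = B (t⁻¹ * b)) :
    ∃ X' : F → P, (∀ s, π (X' s) = X s) ∧ (∀ s t, X' (s + t) = X' s * X' t) ∧
      ∀ a b, ∀ p q : P, π p = A a → π q = B b → p * q * p⁻¹ * q⁻¹ = X' (a * b) := by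
  haveI : Fintype F := Fintype.ofFinite F
  choose sA hsA using fun a => hπ (A a)
  choose sB hsB using fun b => hπ (B b)
  let D : F → F → P := fun a b => sA a * sB b * (sA a)⁻¹ * (sB b)⁻¹
  have hDπ : ∀ a b, π (D a b) = X (a * b) := by
    intro a b
    show π (sA a * sB b * (sA a)⁻¹ * (sB b)⁻¹) = _
    rw [map_mul, map_mul, map_mul, map_inv, map_inv, hsA, hsB, hAB]
  have hDc : ∀ a b p q, π p = A a → π q = B b → p * q * p⁻¹ * q⁻¹ = D a b := fun a b p q hp hq =>
    comm_eq hc (by rw [hp, hsA]) (by rw [hq, hsB])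
  have hDA : ∀ a b c p, π p = A c → D a b * p = p * D a b := fun a b c p hp =>
    XA (a * b) c P π hπ hc _ _ (hDπ a b) hp
  have hDB : ∀ a b c p, π p = B c → D a b * p = p * D a b := fun a b c p hp =>
    XB (a * b) c P π hπ hc _ _ (hDπ a b) hp
  have hDr : ∀ a b b', D a (b + b') = D a b * D a b' := by
    intro a b b'
    obtain ⟨c, hc1, hc2⟩ := hB b b'
    obtain ⟨k, hk⟩ := hπ c
    have hkA : k * sA a = sA a * k := hc2 a P π hπ hc k (sA a) hk (hsA a)
    have hk2 : k * (sA a)⁻¹ * k⁻¹ = (sA a)⁻¹ := by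
      calc k * (sA a)⁻¹ * k⁻¹ = (sA a)⁻¹ * (sA a * k) * (sA a)⁻¹ * k⁻¹ := by group
        _ = (sA a)⁻¹ * (k * sA a) * (sA a)⁻¹ * k⁻¹ := by rw [hkA]
        _ = _ := by group
    have h1 := hDB a b' b (sB b) (hsB b)
    have h2 : π (sB (b + b') * k) = π (sB b * sB b') := by rw [map_mul, map_mul, hsB, hsB, hsB, hk, hc1]
    calc D a (b + b') = sA a * sB (b + b') * (sA a)⁻¹ * (sB (b + b'))⁻¹ := rfl
      _ = sA a * sB (b + b') * (k * (sA a)⁻¹ * k⁻¹) * (sB (b + b'))⁻¹ := by rw [hk2]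
      _ = sA a * (sB (b + b') * k) * (sA a)⁻¹ * (sB (b + b') * k)⁻¹ := by group
      _ = sA a * (sB b * sB b') * (sA a)⁻¹ * (sB b * sB b')⁻¹ := comm_eq hc rfl h2
      _ = D a b * (sB b * D a b') * (sB b)⁻¹ := by simp only [D]; group
      _ = D a b * (D a b' * sB b) * (sB b)⁻¹ := by rw [h1]
      _ = _ := by group
  have hDl : ∀ a a' b, D (a + a') b = D a b * D a' b := by
    intro a a' b
    rw [← hDc (a + a') b (sA a * sA a') (sB b) (by rw [map_mul, hsA, hsA, hA]) (hsB b)]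
    have h1 := hDA a' b a (sA a) (hsA a)
    have h2 : D a' b * D a b = D a b * D a' b := by
      have k1 : D a' b * (sA a * sB b * (sA a)⁻¹ * (sB b)⁻¹) = (sA a * sB b * (sA a)⁻¹ * (sB b)⁻¹) * D a' b := by
        have e1 := hDA a' b a (sA a) (hsA a)
        have e2 := hDB a' b b (sB b) (hsB b)
        have e3 : D a' b * (sA a)⁻¹ = (sA a)⁻¹ * D a' b := by
          calc D a' b * (sA a)⁻¹ = (sA a)⁻¹ * (sA a * D a' b) * (sA a)⁻¹ := by group
            _ = (sA a)⁻¹ * (D a' b * sA a) * (sA a)⁻¹ := by rw [e1]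
            _ = _ := by group
        have e4 : D a' b * (sB b)⁻¹ = (sB b)⁻¹ * D a' b := by
          calc D a' b * (sB b)⁻¹ = (sB b)⁻¹ * (sB b * D a' b) * (sB b)⁻¹ := by group
            _ = (sB b)⁻¹ * (D a' b * sB b) * (sB b)⁻¹ := by rw [e2]
            _ = _ := by group
        calc D a' b * (sA a * sB b * (sA a)⁻¹ * (sB b)⁻¹)
            = (D a' b * sA a) * sB b * (sA a)⁻¹ * (sB b)⁻¹ := by group
          _ = sA a * (D a' b * sB b) * (sA a)⁻¹ * (sB b)⁻¹ := by rw [e1]; group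
          _ = sA a * sB b * (D a' b * (sA a)⁻¹) * (sB b)⁻¹ := by rw [e2]; group
          _ = sA a * sB b * (sA a)⁻¹ * (D a' b * (sB b)⁻¹) := by rw [e3]; group
          _ = _ := by rw [e4]; group
      exact k1
    calc sA a * sA a' * sB b * (sA a * sA a')⁻¹ * (sB b)⁻¹
        = (sA a * D a' b) * (sB b * (sA a)⁻¹ * (sB b)⁻¹) := by simp only [D]; group
      _ = (D a' b * sA a) * (sB b * (sA a)⁻¹ * (sB b)⁻¹) := by rw [h1]
      _ = D a' b * D a b := by simp only [D]; group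
      _ = _ := h2
  have hDr0 : ∀ a, D a 0 = 1 := fun a => add_map_zero (f := D a) (hDr a)
  have hDl0 : ∀ b, D 0 b = 1 := fun b => add_map_zero (f := fun a => D a b) fun x y => hDl x y b
  have hDpow : ∀ a b, D a b ^ r = 1 := by
    intro a b
    rw [add_map_pow (f := D a) (hDr a), ← Nat.cast_smul_eq_nsmul F, CharP.cast_eq_zero, zero_smul, hDr0]
  -- the torus
  have htor : ∀ t ∈ S, ∀ a b, D (t * a) b = D a (t * b) := by
    intro t ht
    obtain ⟨ht0, h, h1, h2⟩ := hSt t ht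
    have hN : r.Coprime (Nat.card F - 1) := by
      obtain ⟨n, -, hn⟩ := FiniteField.card F r
      rw [Nat.card_eq_fintype_card, hn, Nat.Prime.coprime_iff_not_dvd hr]
      intro hd
      have h3 : r ∣ r ^ (n : ℕ) := dvd_pow_self r n.pos.ne'
      have h4 : 1 ≤ r ^ (n : ℕ) := Nat.one_le_pow _ _ hr.pos
      have h5 := (Nat.dvd_sub_iff_right h4 h3).1 hd
      exact hr.one_lt.ne' (Nat.dvd_one.1 h5)
    obtain ⟨n, m, hn, hm, hnm⟩ := exists_pow_coprime r hr h hN
    have htn : t ^ n = t := by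
      have h3 : t ^ (Nat.card F - 1) = 1 := by
        rw [Nat.card_eq_fintype_card]; exact FiniteField.pow_card_sub_one_eq_one t ht0
      have h4 : (Units.mk0 t ht0) ^ n = (Units.mk0 t ht0) ^ 1 := by
        rw [pow_eq_pow_iff_modEq]
        refine hn.of_dvd (orderOf_dvd_of_pow_eq_one (Units.ext ?_))
        rw [Units.val_pow_eq_pow_val, Units.val_mk0, h3, Units.val_one]
      have h5 := congrArg Units.val h4
      rwa [Units.val_pow_eq_pow_val, Units.val_pow_eq_pow_val, Units.val_mk0, pow_one] at h5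
    have hA' : ∀ k : ℕ, ∀ a, h ^ k * A a * (h ^ k)⁻¹ = A (t ^ k * a) := by
      intro k
      induction k with
      | zero => intro a; simp
      | succ k ih =>
        intro a
        rw [pow_succ' h]
        calc h * h ^ k * A a * (h * h ^ k)⁻¹ = h * (h ^ k * A a * (h ^ k)⁻¹) * h⁻¹ := by group
          _ = A (t ^ (k + 1) * a) := by rw [ih, h1]; congr 1; ring
    have hB' : ∀ k : ℕ, ∀ b, h ^ k * B b * (h ^ k)⁻¹ = B ((t ^ k)⁻¹ * b) := by
      intro k
      induction k with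
      | zero => intro b; simp
      | succ k ih =>
        intro b
        rw [pow_succ' h]
        calc h * h ^ k * B b * (h * h ^ k)⁻¹ = h * (h ^ k * B b * (h ^ k)⁻¹) * h⁻¹ := by group
          _ = B ((t ^ (k + 1))⁻¹ * b) := by rw [ih, h2]; congr 1; rw [pow_succ', mul_inv]; ring
    obtain ⟨g, hg⟩ := hπ (h ^ n)
    -- `g` centralises `D a b`
    have hconj : ∀ a b, g * D a b * g⁻¹ = D (t * a) (t⁻¹ * b) := by
      intro a b
      rw [← hDc (t * a) (t⁻¹ * b) (g * sA a * g⁻¹) (g * sB b * g⁻¹)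
        (by rw [map_mul, map_mul, map_inv, hg, hsA, hA', htn])
        (by rw [map_mul, map_mul, map_inv, hg, hsB, hB', htn])]
      simp only [D]
      group
    have hfix : ∀ a b, D (t * a) (t⁻¹ * b) = D a b := by
      intro a b
      set y := D a b with hy
      have hz : π ((y⁻¹ * D (t * a) (t⁻¹ * b))) = 1 := by
        rw [map_mul, map_inv, hy, hDπ, hDπ]
        have : t * a * (t⁻¹ * b) = a * b := by field_simp
        rw [this, inv_mul_cancel]
      set ζ := y⁻¹ * D (t * a) (t⁻¹ * b) with hζ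
      have hζc : ∀ x, x * ζ = ζ * x := fun x => mem_cen hc hz x
      have e1 : g * y * g⁻¹ = y * ζ := by rw [hconj, hζ]; group
      have hζr : ζ ^ r = 1 := by
        have h3 : (y * ζ) ^ r = 1 := by
          rw [← e1, conj_pow, hDpow, mul_one, mul_inv_cancel]
        have h4 : (y * ζ) ^ r = y ^ r * ζ ^ r := (show Commute y ζ from hζc y).mul_pow r
        rw [h4, hDpow, one_mul] at h3
        exact h3
      have e2 : ∀ k : ℕ, g ^ k * y * (g ^ k)⁻¹ = y * ζ ^ k := by
        intro k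
        induction k with
        | zero => simp
        | succ k ih =>
          have h5 : g * ζ ^ k = ζ ^ k * g := ((show Commute g ζ from hζc g).pow_right k).eq
          rw [pow_succ' g]
          calc g * g ^ k * y * (g * g ^ k)⁻¹ = g * (g ^ k * y * (g ^ k)⁻¹) * g⁻¹ := by group
            _ = g * (y * ζ ^ k) * g⁻¹ := by rw [ih]
            _ = (g * y * g⁻¹) * (g * ζ ^ k) * g⁻¹ := by group
            _ = (y * ζ) * (ζ ^ k * g) * g⁻¹ := by rw [e1, h5]
            _ = y * (ζ ^ (k + 1)) := by rw [pow_succ']; group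
      have hζm : ζ ^ m = 1 := by
        have h5 : π (g ^ m) = 1 := by rw [map_pow, hg, hnm]
        have h6 := mem_cen hc h5 y
        have h7 := e2 m
        rw [← h6] at h7
        have h8 : y * g ^ m * (g ^ m)⁻¹ = y := by group
        rw [h8] at h7
        exact (mul_eq_left.1 h7.symm)
      have hζ1 : ζ = 1 := by
        have h5 := pow_gcd_eq_one.2 ⟨hζr, hζm⟩
        rw [hm, pow_one] at h5
        exact h5
      have : D (t * a) (t⁻¹ * b) = y * ζ := by rw [hζ]; group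
      rw [this, hζ1, mul_one]
    intro a b
    have := hfix a (t * b)
    rwa [inv_mul_cancel_left₀ ht0] at this
  -- the subring
  let R : Subring F :=
    { carrier := {f | ∀ a b, D (f * a) b = D a (f * b)}
      mul_mem' := by
        intro x y hx hy a b
        rw [mul_assoc, hx, hy, ← mul_assoc, mul_comm y]
      one_mem' := by intro a b; rw [one_mul, one_mul]
      add_mem' := by
        intro x y hx hy a b
        rw [add_mul, add_mul, hDl, hDr, hx, hy]
      zero_mem' := by intro a b; rw [zero_mul, zero_mul, hDl0, hDr0]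
      neg_mem' := by
        intro x hx a b
        rw [neg_mul, neg_mul, add_map_neg (f := fun a => D a b) (fun x y => hDl x y b), add_map_neg (f := D a) (hDr a),
          hx] }
  have hR : ∀ f, ∀ a b, D (f * a) b = D a (f * b) := by
    intro f
    have h1 : Subring.closure S ≤ R := Subring.closure_le.2 fun t ht => htor t ht
    rw [hS] at h1
    exact h1 (Subring.mem_top f)
  refine ⟨fun s => D 1 s, fun s => by rw [hDπ, one_mul], fun s t => hDr 1 s t, fun a b p q hp hq => ?_⟩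
  rw [hDc a b p q hp hq]
  have := hR a 1 b
  rwa [mul_one] at this

/-- **The lift of `X` from the torus.** -/
theorem hat_torus [Finite T] [Finite F] {r : ℕ} (hr : r.Prime) [CharP F r] (hπ : Function.Surjective π)
    (hc : π.ker ≤ Subgroup.center P)
    (hA : ∀ s t, A (s + t) = A s * A t) (hB : ∀ s t, B (s + t) = B s * B t)
    (hAB : ∀ a b, A a * B b * (A a)⁻¹ * (B b)⁻¹ = X (a * b))
    (XA : ∀ s a, SC.{u, v} (X s) (A a)) (XB : ∀ s b, SC.{u, v} (X s) (B b))
    {S : Set F} (hS : Subring.closure S = ⊤) (hSt : ∀ t ∈ S, t ≠ 0 ∧ ∃ h : T, (∀ a, h * A a * h⁻¹ = A (t * a)) ∧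
      ∀ b, h * B b * h⁻¹ = B (t⁻¹ * b)) :
    ∃ X' : F → P, (∀ s, π (X' s) = X s) ∧ (∀ s t, X' (s + t) = X' s * X' t) ∧
      ∀ a b, ∀ p q : P, π p = A a → π q = B b → p * q * p⁻¹ * q⁻¹ = X' (a * b) :=
  hat_torus' hr hπ hc hA (fun s t => ⟨1, by rw [hB, mul_one], fun a => SC.one_left _⟩) hAB XA XB hS hSt

/-- Two lifts respected by an element without fixed points are equal. -/
theorem hat_unify (hc : π.ker ≤ Subgroup.center P) {S : Type u'} [AddCommGroup S] {X₁ X₂ : S → P}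
    (hπX : ∀ s, π (X₁ s) = π (X₂ s)) (h1 : ∀ s t, X₁ (s + t) = X₁ s * X₁ t) (h2 : ∀ s t, X₂ (s + t) = X₂ s * X₂ t)
    {h : P} {μ : S → S} (hμ : ∀ s, ∃ x, μ x = x + s) (e1 : ∀ s, h * X₁ s * h⁻¹ = X₁ (μ s))
    (e2 : ∀ s, h * X₂ s * h⁻¹ = X₂ (μ s)) (s : S) : X₁ s = X₂ s := by
  have hz : ∀ s, π (X₁ s * (X₂ s)⁻¹) = 1 := fun s => by rw [map_mul, map_inv, hπX, mul_inv_cancel]
  have hfix : ∀ s, X₁ (μ s) * (X₂ (μ s))⁻¹ = X₁ s * (X₂ s)⁻¹ := by
    intro s
    have h3 := mem_cen hc (hz s) h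
    calc X₁ (μ s) * (X₂ (μ s))⁻¹ = h * (X₁ s * (X₂ s)⁻¹) * h⁻¹ := by rw [← e1, ← e2]; group
      _ = (X₁ s * (X₂ s)⁻¹ * h) * h⁻¹ := by rw [h3]
      _ = _ := by group
  obtain ⟨x, hx⟩ := hμ s
  have h4 := hfix x
  rw [hx, h1, h2] at h4
  have h5 := mem_cen hc (hz s) (X₁ x)
  have h6 : X₁ x * X₁ s * (X₂ x * X₂ s)⁻¹ = (X₁ s * (X₂ s)⁻¹) * (X₁ x * (X₂ x)⁻¹) := by
    calc X₁ x * X₁ s * (X₂ x * X₂ s)⁻¹ = (X₁ x * (X₁ s * (X₂ s)⁻¹)) * (X₂ x)⁻¹ := by group
      _ = ((X₁ s * (X₂ s)⁻¹) * X₁ x) * (X₂ x)⁻¹ := by rw [h5]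
      _ = _ := by group
  rw [h6] at h4
  exact mul_inv_eq_one.1 (mul_eq_right.1 h4)

end

end Cfsg.Agent.H203.LS
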