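import Cfsg.Agent.H203.LSHeis
import Cfsg.Agent.Mrg.Omega.Lie.HeisF

/-!
# The Heisenberg bound for Chevalley groups, arbitrary kernels

A finite check `Dat.chk` of a certificate for a tabulated Chevalley datum `D`; it implies
`LS r ((|F| - 1) * |F| ^ n) (D.group F)`.
-/

set_option autoImplicit false
set_option linter.dupNamespace false
set_option linter.style.haveILetI false

universe u v w u' w'

namespace Cfsg.Agent.H203.LS

/-- Two root groups commuting with a torus element centralising the first and moving the second. -/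
theorem SC.torus {T : Type u} [Group T] {F : Type w'} [Field F] {β : F → T}
    (hβ : ∀ x y, β (x + y) = β x * β y) {a h : T} {z : F} (hz : z ≠ 1) (hac : ∀ u, a * β u = β u * a)
    (ha : h * a * h⁻¹ = a) (hb : ∀ u, h * β u * h⁻¹ = β (z * u)) (u : F) : SC.{u, v} a (β u) := by
  intro P _ π hπ hc x y hx hy
  obtain ⟨b, hb'⟩ := hπ (β ((z - 1)⁻¹ * u))
  obtain ⟨k, hk⟩ := hπ h
  -- the commutator of `x` and `b`
  have h1 : x * b * x⁻¹ * b⁻¹ ∈ Subgroup.center P := by
    apply hc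
    rw [MonoidHom.mem_ker, map_mul, map_mul, map_mul, map_inv, map_inv, hx, hb', hac]
    group
  have h2 := Subgroup.mem_center_iff.1 h1
  set ζ := x * b * x⁻¹ * b⁻¹ with hζ
  have e1 : x * b * x⁻¹ = ζ * b := by rw [hζ]; group
  -- conjugates
  have e2 : x * (k * b * k⁻¹) * x⁻¹ = ζ * (k * b * k⁻¹) := by
    have e3 : ∀ y, (k⁻¹ * x * k) * y * (k⁻¹ * x * k)⁻¹ = x * y * x⁻¹ := fun y =>
      conj_eq hc (by
        rw [map_mul, map_mul, map_inv, hx, hk]
        calc h⁻¹ * a * h = h⁻¹ * (h * a * h⁻¹) * h := by rw [ha]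
          _ = a := by group) y
    calc x * (k * b * k⁻¹) * x⁻¹ = k * ((k⁻¹ * x * k) * b * (k⁻¹ * x * k)⁻¹) * k⁻¹ := by group
      _ = k * (ζ * b) * k⁻¹ := by rw [e3, e1]
      _ = (k * ζ) * b * k⁻¹ := by group
      _ = (ζ * k) * b * k⁻¹ := by rw [h2]
      _ = _ := by group
  have e4 : x * (k * b * k⁻¹ * b⁻¹) * x⁻¹ = k * b * k⁻¹ * b⁻¹ := by
    calc x * (k * b * k⁻¹ * b⁻¹) * x⁻¹ = (x * (k * b * k⁻¹) * x⁻¹) * (x * b * x⁻¹)⁻¹ := by group
      _ = ζ * (k * b * k⁻¹) * (ζ * b)⁻¹ := by rw [e2, e1]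
      _ = ζ * (k * b * k⁻¹ * b⁻¹) * ζ⁻¹ := by group
      _ = ζ * ζ⁻¹ * (k * b * k⁻¹ * b⁻¹) := by
          have h3 := Subgroup.mem_center_iff.1 ((Subgroup.center P).inv_mem h1) (k * b * k⁻¹ * b⁻¹)
          rw [mul_assoc, h3, ← mul_assoc]
      _ = _ := by group
  have e5 : π y = π (k * b * k⁻¹ * b⁻¹) := by
    rw [map_mul, map_mul, map_mul, map_inv, map_inv, hy, hk, hb', hb, ← add_map_neg hβ, ← hβ]
    congr 1
    have := sub_ne_zero.2 hz
    field_simp
    ring
  have e6 : π ((k * b * k⁻¹ * b⁻¹)⁻¹ * y) = 1 := by rw [map_mul, map_inv, ← e5]; group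
  have e7 := mem_cen hc e6 x
  set c := k * b * k⁻¹ * b⁻¹ with hcd
  have e8 : x * c = c * x := by rw [mul_inv_eq_iff_eq_mul] at e4; exact e4
  calc x * y = (x * c) * (c⁻¹ * y) := by group
    _ = c * (x * (c⁻¹ * y)) := by rw [e8]; group
    _ = c * ((c⁻¹ * y) * x) := by rw [e7]
    _ = y * x := by group

namespace Chev

open Cfsg.Lie Cfsg.Lie.ChevalleyDatum Cfsg.Agent.ChevalleyStructure Cfsg.Agent.ChevalleyStructure.Elts
  Cfsg.Agent.Omega.TwoF.ChevHeis

/-- Certificates for `SC (x_r t) (x_s u)`. -/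
inductive Cert
  /-- `r = β + γ`, constant `m` -/
  | dl (β γ : ℕ) (m : ℤ)
  /-- `s = β + γ`, constant `m` -/
  | dr (β γ : ℕ) (m : ℤ)
  /-- the torus element `h_i`, centralising `x_r`, exponent `c` on `x_s` -/
  | tr (i : ℕ) (c : ℤ)
  /-- the torus element `h_i`, centralising `x_s`, exponent `c` on `x_r` -/
  | tl (i : ℕ) (c : ℤ)

/-- the check of a certificate; `ms` the admissible constants, `cs` the admissible exponents -/
def Cert.chk (D : ChevalleyDatum) (ms cs : List ℤ) (r s : ℕ) : Cert → Bool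
  | .dl β γ m => br D β γ r m && (ms.contains m && (cm D β s && cm D γ s))
  | .dr β γ m => br D β γ s m && (ms.contains m && (cm D β r && cm D γ r))
  | .tr i c => cm D r s && (Nat.blt i D.rank && (D.cartan i r == 0 && (D.cartan i s == c && cs.contains c)))
  | .tl i c => cm D r s && (Nat.blt i D.rank && (D.cartan i s == 0 && (D.cartan i r == c && cs.contains c)))

section

variable {D : ChevalleyDatum} (hD : InList D) {F : Type u} [Field F]

/-- the torus -/
def hK (i : ℕ) (t : F) : D.group F := ⟨hG hD (D.simple i) t, hG_mem_group hD _ _⟩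

theorem hK_conj {i s : ℕ} (hi : i < D.rank) (hs : s < D.nroots) {z : F} (hz : z ≠ 0) (t : F) :
    hK hD i z * xK hD s t * (hK hD i z)⁻¹ = xK hD s (z ^ (D.cartan i s) * t) := by
  rw [mul_inv_eq_iff_eq_mul]
  apply Subtype.ext
  apply Units.ext
  show D.hMat F (D.simple i) z * D.x F s t = _
  exact S1032.result D hD i s hi hs z hz t

theorem xK_comm_br {β γ r : ℕ} {m : ℤ} (h : br D β γ r m = true) (t u : F) :
    (xK hD γ u)⁻¹ * (xK hD β t)⁻¹ * ((xK hD γ u)⁻¹)⁻¹ * ((xK hD β t)⁻¹)⁻¹ = xK hD r (-(m * t * u)) := by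
  have := xK_br hD h t u
  calc (xK hD γ u)⁻¹ * (xK hD β t)⁻¹ * ((xK hD γ u)⁻¹)⁻¹ * ((xK hD β t)⁻¹)⁻¹
      = (xK hD γ u)⁻¹ * (xK hD β t)⁻¹ * (xK hD γ u * xK hD β t) := by group
    _ = (xK hD γ u)⁻¹ * (xK hD β t)⁻¹ * (xK hD β t * xK hD γ u * xK hD r (-(m * t * u))) := by rw [this]
    _ = _ := by group

theorem sc_dl {β γ r s : ℕ} {m : ℤ} (h : br D β γ r m = true) (hm : (m : F) ≠ 0) (hs : s < D.nroots)
    (h1 : cm D β s = true) (h2 : cm D γ s = true) (t u : F) : SC.{u, v} (xK hD r t) (xK hD s u) := by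
  obtain ⟨hβ, hγ⟩ := br_lt h
  have h3 := xK_comm_br hD h (-((m : F)⁻¹ * t)) 1
  have h4 : -((m : F) * -((m : F)⁻¹ * t) * 1) = t := by field_simp
  rw [h4] at h3
  rw [← h3]
  apply SC.of_commutator
  · have := xK_commute hD hγ hs h2 1 u
    calc (xK hD γ 1)⁻¹ * xK hD s u = (xK hD γ 1)⁻¹ * (xK hD s u * xK hD γ 1) * (xK hD γ 1)⁻¹ := by group
      _ = (xK hD γ 1)⁻¹ * (xK hD γ 1 * xK hD s u) * (xK hD γ 1)⁻¹ := by rw [this]
      _ = _ := by group
  · have := xK_commute hD hβ hs h1 (-((m : F)⁻¹ * t)) u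
    calc (xK hD β (-((m : F)⁻¹ * t)))⁻¹ * xK hD s u
        = (xK hD β (-((m : F)⁻¹ * t)))⁻¹ * (xK hD s u * xK hD β (-((m : F)⁻¹ * t))) *
          (xK hD β (-((m : F)⁻¹ * t)))⁻¹ := by group
      _ = (xK hD β (-((m : F)⁻¹ * t)))⁻¹ * (xK hD β (-((m : F)⁻¹ * t)) * xK hD s u) *
          (xK hD β (-((m : F)⁻¹ * t)))⁻¹ := by rw [this]
      _ = _ := by group

/-- **Soundness of the certificates.** -/
theorem sc_of_cert {ms cs : List ℤ} (hms : ∀ m ∈ ms, (m : F) ≠ 0) (hcs : ∀ c ∈ cs, ∃ z : F, z ≠ 0 ∧ z ^ c ≠ 1)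
    {r s : ℕ} (hr : r < D.nroots) (hs : s < D.nroots) {c : Cert} (h : c.chk D ms cs r s = true) (t u : F) :
    SC.{u, v} (xK hD r t) (xK hD s u) := by
  rcases c with ⟨β, γ, m⟩ | ⟨β, γ, m⟩ | ⟨i, c⟩ | ⟨i, c⟩
  · simp only [Cert.chk, Bool.and_eq_true, List.contains_iff_mem] at h
    exact sc_dl hD h.1 (hms _ h.2.1) hs h.2.2.1 h.2.2.2 t u
  · simp only [Cert.chk, Bool.and_eq_true, List.contains_iff_mem] at h
    exact (sc_dl hD h.1 (hms _ h.2.1) hr h.2.2.1 h.2.2.2 u t).symm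
  · simp only [Cert.chk, Bool.and_eq_true, List.contains_iff_mem, Nat.blt_eq, beq_iff_eq] at h
    obtain ⟨h1, h2, h3, h4, h5⟩ := h
    obtain ⟨z, hz0, hz⟩ := hcs _ h5
    refine SC.torus (xK_add hD s) (z := z ^ c) (h := hK hD i z) hz (fun u => xK_commute hD hr hs h1 t u) ?_ ?_ u
    · rw [hK_conj hD h2 hr hz0, h3, zpow_zero, one_mul]
    · intro u
      rw [hK_conj hD h2 hs hz0, h4]
  · simp only [Cert.chk, Bool.and_eq_true, List.contains_iff_mem, Nat.blt_eq, beq_iff_eq] at h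
    obtain ⟨h1, h2, h3, h4, h5⟩ := h
    obtain ⟨z, hz0, hz⟩ := hcs _ h5
    refine (SC.torus (xK_add hD r) (z := z ^ c) (h := hK hD i z) hz
      (fun t => (xK_commute hD hr hs h1 t u).symm) ?_ ?_ t).symm
    · rw [hK_conj hD h2 hs hz0, h3, zpow_zero, one_mul]
    · intro u
      rw [hK_conj hD h2 hr hz0, h4]

end

/-- The data of a Heisenberg certificate. -/
structure Dat where
  /-- the root of `X` -/
  ρ : ℕ
  /-- the torus element -/
  i0 : ℕ
  /-- the pairs `(α, β, m)` -/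
  prs : List (ℕ × ℕ × ℤ)
  /-- the certificate for `X`, `X` -/
  cxx : Cert
  /-- the certificates for `X`, `A i` and `X`, `B i` -/
  cx : List (Cert × Cert)
  /-- the certificates for `A i`, `A j`, `j ≤ i` -/
  caa : List (List Cert)
  /-- the certificates for `B i`, `A j`, `j ≠ i` -/
  cba : List (List Cert)
  /-- the ties: `(j, true/false, γ, m1, m2)` -/
  ties : List (ℕ × Bool × ℕ × ℤ × ℤ)

namespace Dat

variable (D : ChevalleyDatum) (ms cs : List ℤ) (d : Dat)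

/-- `α_i` -/
def al (i : ℕ) : ℕ := (d.prs.getD i (0, 0, 0)).1
/-- `β_i` -/
def be (i : ℕ) : ℕ := (d.prs.getD i (0, 0, 0)).2.1
/-- `m_i` -/
def mm (i : ℕ) : ℤ := (d.prs.getD i (0, 0, 0)).2.2

/-- the tie `(i, j)`: `γ + α_j = α_i` (constant `m1`), `γ + β_i = β_j` (constant `m2`) -/
def tieChk (i j γ : ℕ) (m1 m2 : ℤ) : Bool :=
  br D (d.al j) γ (d.al i) m1 && (br D (d.be i) γ (d.be j) m2 && (cm D γ (d.al i) && (cm D γ (d.be j) &&
    ((m1 == 1 || m1 == -1) && ((m2 == 1 || m2 == -1) && d.mm i * d.mm j * m1 * m2 == -1)))))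

/-- the checks for a single pair -/
def chkS (i : ℕ) : Bool :=
  br D (d.al i) (d.be i) d.ρ (d.mm i) && ((d.mm i == 1 || d.mm i == -1) &&
    (cm D d.ρ (d.al i) && (cm D d.ρ (d.be i) &&
    ((d.cx.getD i (.tr 0 0, .tr 0 0)).1.chk D ms cs d.ρ (d.al i) &&
      (d.cx.getD i (.tr 0 0, .tr 0 0)).2.chk D ms cs d.ρ (d.be i)))))

/-- the check for a tie -/
def chkT (i : ℕ) : Bool :=
  match d.ties.getD i (0, true, 0, 0, 0) with
  | (j, b, γ, m1, m2) => Nat.blt j i && (if b then d.tieChk D i j γ m1 m2 else d.tieChk D j i γ m1 m2)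

/-- the check for `A i`, `A j` -/
def chkA (i j : ℕ) : Bool := ((d.caa.getD i []).getD j (.tr 0 0)).chk D ms cs (d.al i) (d.al j)

/-- the check for `B i`, `A j` -/
def chkB (i j : ℕ) : Bool := ((d.cba.getD i []).getD j (.tr 0 0)).chk D ms cs (d.be i) (d.al j)

/-- the check for the head -/
def chkH : Bool :=
  Nat.blt d.ρ D.nroots && (Nat.blt d.i0 D.rank && (D.cartan d.i0 d.ρ == 1 &&
    (D.cartan d.i0 (d.al 0) + D.cartan d.i0 (d.be 0) == 1 && (d.cxx.chk D ms cs d.ρ d.ρ &&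
      Nat.blt 1 d.prs.length))))

/-- rows of the `A`-check -/
def rowA (n m : ℕ) : Bool := (List.range m).all fun k => (List.range (n + k + 1)).all fun j => d.chkA D ms cs (n + k) j

/-- rows of the `B`-check -/
def rowB (n m : ℕ) : Bool := (List.range m).all fun k => (List.range d.prs.length).all fun j =>
  n + k == j || d.chkB D ms cs (n + k) j

/-- rows of the single checks -/
def rowS (n m : ℕ) : Bool := (List.range m).all fun k => d.chkS D ms cs (n + k)

/-- rows of the tie checks -/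
def rowT (n m : ℕ) : Bool := (List.range m).all fun k => d.chkT D (n + 1 + k)

theorem rowA_get {n m : ℕ} (h : d.rowA D ms cs n m = true) {i j : ℕ} (h1 : n ≤ i) (h2 : i < n + m) (hj : j ≤ i) :
    d.chkA D ms cs i j = true := by
  obtain ⟨k, rfl⟩ := Nat.exists_eq_add_of_le h1
  have h3 := List.all_eq_true.1 h k (List.mem_range.2 (by omega))
  exact List.all_eq_true.1 h3 j (List.mem_range.2 (by omega))

theorem rowB_get {n m : ℕ} (h : d.rowB D ms cs n m = true) {i j : ℕ} (h1 : n ≤ i) (h2 : i < n + m)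
    (hj : j < d.prs.length) (hij : i ≠ j) : d.chkB D ms cs i j = true := by
  obtain ⟨k, rfl⟩ := Nat.exists_eq_add_of_le h1
  have h3 := List.all_eq_true.1 h k (List.mem_range.2 (by omega))
  have h4 := List.all_eq_true.1 h3 j (List.mem_range.2 hj)
  simp only [Bool.or_eq_true, beq_iff_eq] at h4
  exact h4.resolve_left hij

theorem rowS_get {n m : ℕ} (h : d.rowS D ms cs n m = true) {i : ℕ} (h1 : n ≤ i) (h2 : i < n + m) :
    d.chkS D ms cs i = true := by
  obtain ⟨k, rfl⟩ := Nat.exists_eq_add_of_le h1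
  exact List.all_eq_true.1 h k (List.mem_range.2 (by omega))

theorem rowT_get {n m : ℕ} (h : d.rowT D n m = true) {i : ℕ} (h1 : n + 1 ≤ i) (h2 : i < n + 1 + m) :
    d.chkT D i = true := by
  obtain ⟨k, rfl⟩ := Nat.exists_eq_add_of_le h1
  exact List.all_eq_true.1 h k (List.mem_range.2 (by omega))

/-- all checks -/
def Ok : Prop :=
  d.chkH D ms cs = true ∧ (∀ i < d.prs.length, d.chkS D ms cs i = true) ∧
    (∀ i < d.prs.length, 0 < i → d.chkT D i = true) ∧
    (∀ i < d.prs.length, ∀ j ≤ i, d.chkA D ms cs i j = true) ∧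
    ∀ i < d.prs.length, ∀ j < d.prs.length, i ≠ j → d.chkB D ms cs i j = true

end Dat

theorem unit_of {F : Type u} [Field F] {m : ℤ} (h : m = 1 ∨ m = -1) : (m : F) * m = 1 := by
  rcases h with rfl | rfl <;> simp

/-- **The Heisenberg bound for Chevalley groups.** -/
theorem ls_of_ok {D : ChevalleyDatum} (hD : InList D) {r : ℕ} {F : Type u} [Field F] [Finite F] [CharP F r]
    [IsSimpleGroup (D.group F)] {ms cs : List ℤ} (hms : ∀ m ∈ ms, (m : F) ≠ 0)
    (hcs : ∀ c ∈ cs, ∃ z : F, z ≠ 0 ∧ z ^ c ≠ 1) {d : Dat} (h : d.Ok D ms cs) :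
    LS.{u, v, w} r ((Nat.card F - 1) * Nat.card F ^ d.prs.length) (D.group F) := by
  obtain ⟨hH, hS, hT, hA, hB⟩ := h
  simp only [Dat.chkH, Bool.and_eq_true, Nat.blt_eq, beq_iff_eq] at hH
  obtain ⟨hρ, hi0, hρ1, hab, hxx, hn⟩ := hH
  simp only [Dat.chkS, Bool.and_eq_true, Bool.or_eq_true, beq_iff_eq] at hS
  have hlt : ∀ i < d.prs.length, d.al i < D.nroots ∧ d.be i < D.nroots := fun i hi => br_lt (hS i hi).1
  have hm1 : ∀ i < d.prs.length, ((d.mm i : ℤ) : F) * d.mm i = 1 := fun i hi => unit_of (hS i hi).2.1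
  have hbr : ∀ i, i < d.prs.length → ∀ t u : F, xK hD (d.al i) t * xK hD (d.be i) u * (xK hD (d.al i) t)⁻¹ *
      (xK hD (d.be i) u)⁻¹ = xK hD d.ρ (d.mm i * t * u) := by
    intro i hi t u
    obtain ⟨h1, h2, h3, h4, -⟩ := hS i hi
    have e1 := xK_br hD h1 t u
    have e2 := xK_commute hD hρ (hlt i hi).1 h3 (-(d.mm i * t * u)) t
    have e3 := xK_commute hD hρ (hlt i hi).2 h4 (-(d.mm i * t * u)) u
    set x := xK hD (d.al i) t
    set y := xK hD (d.be i) u
    set c := xK hD d.ρ (-(d.mm i * t * u)) with hc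
    have e4 : xK hD d.ρ ((d.mm i : F) * t * u) = c⁻¹ := by rw [hc, xK_inv, neg_neg]
    rw [e4]
    -- y x = x y c
    calc x * y * x⁻¹ * y⁻¹ = x * y * (y * x)⁻¹ := by group
      _ = x * y * (x * y * c)⁻¹ := by rw [e1]
      _ = (x * y * c⁻¹) * (x * y)⁻¹ := by group
      _ = (c⁻¹ * (x * y)) * (x * y)⁻¹ := by
          congr 1
          have e5 : c * (x * y) = x * y * c := by rw [← mul_assoc, e2, mul_assoc, e3, ← mul_assoc]
          calc x * y * c⁻¹ = c⁻¹ * (c * (x * y)) * c⁻¹ := by group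
            _ = c⁻¹ * (x * y * c) * c⁻¹ := by rw [e5]
            _ = _ := by group
      _ = c⁻¹ := by group
  -- the ties
  have hTie : ∀ i j γ m1 m2, ∀ hi : i < d.prs.length, ∀ hj : j < d.prs.length, i ≠ j →
      d.tieChk D i j γ m1 m2 = true →
      Tie (n := d.prs.length) (F := F) (fun i t => xK hD (d.al i) t) (fun i t => xK hD (d.be i) (d.mm i * t))
        ⟨i, hi⟩ ⟨j, hj⟩ := by
    intro i j γ m1 m2 hi hj hij h
    simp only [Dat.tieChk, Bool.and_eq_true, Bool.or_eq_true, beq_iff_eq] at h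
    obtain ⟨h1, h2, h3, h4, h5, h6, h7⟩ := h
    have hγ := (br_lt h1).2
    refine ⟨fun h => hij (congrArg Fin.val h), fun t => ⟨xK hD γ (-(m1 * t)), fun a b => ⟨?_, ?_⟩⟩⟩
    · show xK hD γ (-(m1 * t)) * xK hD (d.al j) a * (xK hD γ (-(m1 * t)))⁻¹ =
        xK hD (d.al j) a * xK hD (d.al i) (t * a)
      rw [mul_inv_eq_iff_eq_mul, xK_br hD h1, mul_assoc (xK hD (d.al j) a), mul_assoc (xK hD (d.al j) a),
        xK_commute hD hγ (hlt i hi).1 h3]
      congr 3
      have := unit_of (F := F) h5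
      linear_combination (t * a) * this
    · show xK hD γ (-(m1 * t)) * xK hD (d.be i) (d.mm i * b) * (xK hD γ (-(m1 * t)))⁻¹ =
        xK hD (d.be i) (d.mm i * b) * xK hD (d.be j) (d.mm j * -(t * b))
      rw [mul_inv_eq_iff_eq_mul, xK_br hD h2, mul_assoc (xK hD (d.be i) (d.mm i * b)),
        mul_assoc (xK hD (d.be i) (d.mm i * b)), xK_commute hD hγ (hlt j hj).2 h4]
      congr 3
      have e1 := hm1 j hj
      have e2 : ((d.mm i : ℤ) : F) * d.mm j * m1 * m2 = -1 := by exact_mod_cast congrArg (Int.cast (R := F)) h7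
      linear_combination (d.mm j * t * b) * e2 - (m1 * m2 * d.mm i * t * b) * e1
  have hHeis : Heis.{u, v} d.prs.length (xK hD d.ρ (F := F)) (fun i t => xK hD (d.al i) t)
      (fun i t => xK hD (d.be i) (d.mm i * t)) := by
    refine ⟨xK_add hD _, fun i => xK_add hD _, fun i s t => ?_, fun i a b => ?_, ?_, ?_, ?_, ?_, ?_, ?_, ?_⟩
    · rw [mul_add, xK_add]
    · show _ = xK hD d.ρ (a * b)
      rw [hbr i i.2]
      congr 1
      have := hm1 i i.2
      linear_combination (a * b) * this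
    · exact sc_of_cert hD hms hcs hρ hρ hxx
    · exact fun i s a => sc_of_cert hD hms hcs hρ (hlt i i.2).1 (hS i i.2).2.2.2.2.1 s a
    · exact fun i s b => sc_of_cert hD hms hcs hρ (hlt i i.2).2 (hS i i.2).2.2.2.2.2 s _
    · intro i j a b
      rcases le_total (j : ℕ) i with h | h
      · exact sc_of_cert hD hms hcs (hlt i i.2).1 (hlt j j.2).1 (hA i i.2 j h) a b
      · exact (sc_of_cert hD hms hcs (hlt j j.2).1 (hlt i i.2).1 (hA j j.2 i h) b a).symm
    · intro i j hij a b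
      exact sc_of_cert hD hms hcs (hlt i i.2).2 (hlt j j.2).1 (hB i i.2 j j.2 (fun h => hij (Fin.ext h))) _ b
    · omega
    · intro i hi
      have h1 := hT i i.2 hi
      simp only [Dat.chkT] at h1
      generalize d.ties.getD (i : ℕ) (0, true, 0, 0, 0) = e at h1
      obtain ⟨j, b, γ, m1, m2⟩ := e
      simp only [Bool.and_eq_true, Nat.blt_eq] at h1
      obtain ⟨h1, h2⟩ := h1
      have hj : j < d.prs.length := lt_trans h1 i.2
      refine ⟨⟨j, hj⟩, h1, ?_⟩
      cases b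
      · right
        exact hTie j i γ m1 m2 hj i.2 (by omega) h2
      · left
        exact hTie i j γ m1 m2 i.2 hj (by omega) h2
  have h0 : 0 < d.prs.length := by omega
  have key := LS.heis.{u, v, w, u, u} (r := r) hHeis (s₀ := (1 : F))
    (fun h => one_ne_zero ((xG_eq_one_iff hD hρ (1 : F)).1 (congrArg Subtype.val h)))
    (τ := Fˣ) (fun t => (hK hD d.i0 (t : F))⁻¹) (fun t => (t : F)) Units.val_injective
    (fun t i => (t : F) ^ (D.cartan d.i0 (d.al i))) (fun t => (t : F) ^ (D.cartan d.i0 (d.be 0)))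
    (fun t i => zpow_ne_zero _ t.ne_zero) (i₀ := ⟨0, h0⟩) rfl
    (fun t i a => by rw [inv_inv]; exact hK_conj hD hi0 (hlt i i.2).1 t.ne_zero a)
    (fun t b => by
      rw [inv_inv]
      show hK hD d.i0 (t : F) * xK hD (d.be 0) (d.mm 0 * b) * (hK hD d.i0 (t : F))⁻¹ =
        xK hD (d.be 0) (((d.mm 0 : ℤ) : F) * _)
      rw [hK_conj hD hi0 (hlt 0 h0).2 t.ne_zero]
      congr 1; ring)
    (fun t => by rw [← zpow_add₀ t.ne_zero, hab, zpow_one])
  rwa [Nat.card_units] at key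

end Chev

end Cfsg.Agent.H203.LS
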