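import Cfsg.Agent.H203.LSRank
import Cfsg.Agent.LieRecognition.SzMatrix
import Cfsg.Agent.LieRecognition.ReeData
import Cfsg.Agent.S1073
import Cfsg.Agent.S1162

/-!
# `Sz(q)`, `²G₂(q)`: the bound `q - 1`, arbitrary kernels
-/

set_option autoImplicit false
set_option linter.dupNamespace false
set_option linter.style.haveILetI false

universe u v w

namespace Cfsg.Agent.H203.LS

/-- The Frobenius bound if some element acts as a generator of the multiplicative group. -/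
theorem LS.frob_gen {r : ℕ} {K : Type*} [Field K] [Finite K] [CharP K r] (h4 : Nat.card K ≠ 4) {T : Type u} [Group T]
    [IsSimpleGroup T] {α : K → T} (hα : ∀ x y, α (x + y) = α x * α y) {x₀ : K} (hx₀ : α x₀ ≠ 1)
    {u : Kˣ} (hu : ∀ y : Kˣ, y ∈ Subgroup.zpowers u) {c : T} (hcα : ∀ x, c * α x * c⁻¹ = α (u * x)) :
    LS.{u, v, w} r (Nat.card K - 1) T := by
  haveI : Fintype K := Fintype.ofFinite K
  have hord : orderOf (u : K) = Nat.card K - 1 := by
    rw [orderOf_units, orderOf_eq_card_of_forall_mem_zpowers hu, Nat.card_units]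
  have hq1 : 1 < Nat.card K := Finite.one_lt_card
  rw [← hord]
  refine LS.frob' (u := (u : K)) ?_ ?_ hα hx₀ hcα
  · rw [hord]
    by_cases h2 : Nat.card K = 2
    · right; rw [h2]; exact Nat.prime_two
    left
    obtain ⟨m, hm⟩ : ∃ m, Nat.card K = m + 3 := ⟨Nat.card K - 3, by omega⟩
    rw [hm]
    have : m + 3 - 1 = m + 2 := by omega
    rw [this]; nlinarith
  · intro q0 hq0
    rw [hord]
    have h2 : 2 ≤ q0 := by
      by_contra h2
      have : q0 ≤ 1 := by omega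
      have : q0 ^ 2 ≤ 1 := by nlinarith
      omega
    have h3 : q0 ≠ 2 := by rintro rfl; exact h4 hq0
    obtain ⟨m, rfl⟩ : ∃ m, q0 = m + 3 := ⟨q0 - 3, by omega⟩
    rw [hq0]
    have : (m + 3) ^ 2 - 1 = m ^ 2 + 6 * m + 8 := by
      have : (m + 3) ^ 2 = m ^ 2 + 6 * m + 8 + 1 := by ring
      omega
    rw [this]; nlinarith

theorem charP_of_card {K : Type*} [Field K] [Fintype K] {p n : ℕ} (hp : p.Prime) (h : Fintype.card K = p ^ n) :
    CharP K p := by
  obtain ⟨r, hr⟩ := CharP.exists K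
  obtain ⟨k, hrp, hk⟩ := FiniteField.card K r
  have h1 : r ∣ p ^ n := by rw [← h, hk]; exact dvd_pow_self r k.pos.ne'
  have h2 := (Nat.prime_dvd_prime_iff_eq hrp hp).1 (hrp.dvd_of_dvd_pow h1)
  rwa [← h2]

open Cfsg.Agent.LieRecognition.SzMatrix in
/-- **`LS` for `Sz(q)`: `q - 1`.** -/
theorem LS.sz {F : Type u} [Field F] [Fintype F] {m : ℕ} (hm : 1 ≤ m) (hF : Fintype.card F = 2 ^ (2 * m + 1)) :
    LS.{u, v, w} 2 (Nat.card F - 1) ↥(Cfsg.Lie.Sz F (2 ^ (m + 1))) := by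
  haveI := Cfsg.Agent.S1162.result hm hF
  haveI : CharP F 2 := charP_of_card Nat.prime_two hF
  have H := good hF
  obtain ⟨g, hg⟩ := IsCyclic.exists_generator (α := Fˣ)
  obtain ⟨κ, hκ⟩ := (Finite.injective_iff_surjective.1 (RingHom.injective _)) (g : F)
  have hκ0 : κ ≠ 0 := by
    rintro rfl
    rw [map_zero] at hκ
    exact g.ne_zero hκ.symm
  refine LS.frob_gen (α := fun b => H.u 0 b) ?_ (fun x y => ?_) (x₀ := 1) (fun h => ?_) hg (c := H.d (Units.mk0 κ hκ0))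
    (fun x => ?_)
  · rw [Nat.card_eq_fintype_card, hF]
    intro h
    have h3 : 2 ^ 3 ≤ 2 ^ (2 * m + 1) := Nat.pow_le_pow_right (by norm_num) (by omega)
    omega
  · rw [H.u_mul]; congr 1 <;> simp
  · rw [← H.u_zero] at h
    exact one_ne_zero (H.u_inj h).2
  · rw [H.d_mul_u, mul_inv_cancel_right]
    congr 1
    · ring
    · rw [Units.val_mk0, hκ]; ring

open Cfsg.Agent.LieRecognition.ReeData in
/-- **`LS` for `²G₂(q)`: `q - 1`.** -/
theorem LS.ree {F : Type u} [Field F] [Fintype F] {m : ℕ} (hm : 1 ≤ m) (hF : Fintype.card F = 3 ^ (2 * m + 1)) :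
    LS.{u, v, w} 3 (Nat.card F - 1) ↥(Cfsg.Lie.twistedG2 F (3 ^ m)) := by
  haveI := (Cfsg.Agent.S1073.result hm hF).1
  haveI : CharP F 3 := charP_of_card Nat.prime_three hF
  obtain ⟨g, hg⟩ := IsCyclic.exists_generator (α := Fˣ)
  have hcop : Nat.Coprime (2 * 3 ^ (m + 1) + 3) (Nat.card Fˣ) := by
    rw [Nat.card_units, Nat.card_eq_fintype_card, hF]
    have e : 2 * 3 ^ (m + 1) + 3 = 3 * (2 * 3 ^ m + 1) := by ring
    rw [e]
    set x := 3 ^ m with hx
    have hx1 : 1 ≤ x := Nat.one_le_pow _ _ (by norm_num)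
    have e2 : 3 ^ (2 * m + 1) = 3 * x ^ 2 := by rw [hx]; ring
    have hc : IsCoprime (((2 * x + 1 : ℕ)) : ℤ) ((3 * x ^ 2 - 1 : ℕ) : ℤ) := by
      have e4 : ((3 * x ^ 2 - 1 : ℕ) : ℤ) = 3 * (x : ℤ) ^ 2 - 1 := by
        have : 1 ≤ 3 * x ^ 2 := by nlinarith [Nat.one_le_pow 2 x hx1]
        push_cast [this]
        ring
      rw [e4]
      refine ⟨3 * (2 * (x : ℤ) - 1), -4, ?_⟩
      push_cast
      ring
    have hc3 : IsCoprime ((3 : ℕ) : ℤ) ((3 * x ^ 2 - 1 : ℕ) : ℤ) := by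
      have e4 : ((3 * x ^ 2 - 1 : ℕ) : ℤ) = 3 * (x : ℤ) ^ 2 - 1 := by
        have : 1 ≤ 3 * x ^ 2 := by nlinarith [Nat.one_le_pow 2 x hx1]
        push_cast [this]
        ring
      rw [e4]
      refine ⟨(x : ℤ) ^ 2, -1, ?_⟩
      push_cast
      ring
    rw [e2]
    exact Nat.Coprime.mul_left (Nat.isCoprime_iff_coprime.1 hc3) (Nat.isCoprime_iff_coprime.1 hc)
  -- a generator of the image
  have hgen : ∀ y : Fˣ, y ∈ Subgroup.zpowers (g ^ (2 * 3 ^ (m + 1) + 3)) := by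
    intro y
    have h1 : orderOf (g ^ (2 * 3 ^ (m + 1) + 3)) = Nat.card Fˣ := by
      rw [orderOf_pow, orderOf_eq_card_of_forall_mem_zpowers hg, Nat.gcd_comm, hcop, Nat.div_one]
    have h2 : Subgroup.zpowers (g ^ (2 * 3 ^ (m + 1) + 3)) = ⊤ := by
      apply Subgroup.eq_top_of_card_eq
      rw [Nat.card_zpowers, h1]
    rw [h2]; exact Subgroup.mem_top y
  refine LS.frob_gen (α := fun v => U m 0 0 v) ?_ (fun x y => ?_) (x₀ := 1) (fun h1 => ?_) hgen (c := h hF g)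
    (fun x => ?_)
  · rw [Nat.card_eq_fintype_card, hF]
    intro h
    have h3 : 3 ^ 3 ≤ 3 ^ (2 * m + 1) := Nat.pow_le_pow_right (by norm_num) (by omega)
    omega
  · rw [U_mul hF]
    congr 1 <;> simp
  · rw [← U_zero hF] at h1
    have h2 := inj₁ hF 0 0 1 1 0 0 0 1 (by rw [h1])
    exact one_ne_zero h2.2.2.1
  · rw [h_U, mul_inv_cancel_right, mul_zero, mul_zero, Units.val_pow_eq_pow_val]

end Cfsg.Agent.H203.LS
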