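import Mathlib

/-!
# Lower bounds for the degrees of projective representations: the definition and the basic reduction

`LS r d T`: for every finite perfect central extension `π : P →* T` (arbitrary kernel), every field `k` with
`(r : k) ≠ 0` and every nontrivial `ρ : P →* GL (Fin n) k` : `d ≤ n`.

`Core r π ρ`: the situation after the reduction (`k` algebraically closed, `ρ` irreducible and nontrivial, `ker π`
acts by scalars); `LS.of_core`: it is enough to prove `d ≤ finrank k V` for all `Core r π ρ`.

* `linearIndependent_of_weights`, `card_le_of_weights`: weight vectors with pairwise different weights;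
* `exists_weight`: common eigenvectors;
* `Core.not_scalar`: for simple `T` no element outside `ker π` acts as a scalar.
-/

set_option autoImplicit false
set_option linter.dupNamespace false
set_option linter.style.haveILetI false

universe u v w u'

namespace Cfsg.Agent.H203.LS

/-- The lower bound `d` for the degrees of all nontrivial representations, over fields `k` with `(r : k) ≠ 0`, of all
finite perfect central extensions of `T`. -/
def LS (r d : ℕ) (T : Type u) [Group T] : Prop :=
  ∀ (P : Type v) [Group P] [Finite P] (π : P →* T), Function.Surjective π → π.ker ≤ Subgroup.center P →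
    commutator P = ⊤ → ∀ (k : Type w) [Field k], (r : k) ≠ 0 →
      ∀ (n : ℕ) (ρ : P →* Matrix.GeneralLinearGroup (Fin n) k), ρ ≠ 1 → d ≤ n

theorem LS.mono {r d d' : ℕ} {T : Type u} [Group T] (h : LS.{u, v, w} r d T) (hd : d' ≤ d) :
    LS.{u, v, w} r d' T :=
  fun P _ _ π hπ hc hP k _ hk n ρ hρ => hd.trans (h P π hπ hc hP k hk n ρ hρ)

theorem LS.congr {r d : ℕ} {T : Type u} {T' : Type u'} [Group T] [Group T'] (e : T ≃* T')
    (h : LS.{u, v, w} r d T) : LS.{u', v, w} r d T' := by
  intro P _ _ π hπ hc hP k _ hk n ρ hρ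
  refine h P (e.symm.toMonoidHom.comp π) (e.symm.surjective.comp hπ) ?_ hP k hk n ρ hρ
  intro x hx
  apply hc
  rw [MonoidHom.mem_ker] at hx ⊢
  exact e.symm.map_eq_one_iff.1 hx

/-- The situation after the reduction to an irreducible representation over an algebraically closed field. -/
structure Core (r : ℕ) {P : Type v} {T : Type u} [Group P] [Group T] (π : P →* T) {k : Type w} [Field k]
    {V : Type w} [AddCommGroup V] [Module k V] (ρ : P →* (V →ₗ[k] V)) : Prop where
  fin : Finite P
  surj : Function.Surjective π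
  cen : π.ker ≤ Subgroup.center P
  perf : commutator P = ⊤
  rk : (r : k) ≠ 0
  irr : ∀ W : Submodule k V, (∀ g, ∀ v ∈ W, ρ g v ∈ W) → W = ⊥ ∨ W = ⊤
  sc : ∀ c, (∀ g, g * c = c * g) → ∃ s : k, ∀ v, ρ c v = s • v
  ne : ∃ g, ρ g ≠ 1

/-! ### Linear algebra -/

section lin

variable {k V : Type*} [Field k] [AddCommGroup V] [Module k V]

theorem linearIndependent_of_weights {ι J : Type*} (f : J → V →ₗ[k] V) (v : ι → V) (χ : ι → J → k)
    (h0 : ∀ i, v i ≠ 0) (h : ∀ i j, f j (v i) = χ i j • v i) (hinj : Function.Injective χ) :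
    LinearIndependent k v := by
  classical
  rw [linearIndependent_iff']
  intro s
  induction s using Finset.strongInduction with
  | H s ih =>
    intro c hc i0 hi0
    have key : ∀ i1 ∈ s, i1 ≠ i0 → c i1 = 0 := by
      intro i1 hi1 hne
      obtain ⟨j, hj⟩ : ∃ j, χ i1 j ≠ χ i0 j := by
        by_contra hcon
        push Not at hcon
        exact hne (hinj (funext hcon))
      have h1 : ∑ i ∈ s.erase i0, (c i * (χ i j - χ i0 j)) • v i = 0 := by
        have h2 : f j (∑ i ∈ s, c i • v i) - χ i0 j • ∑ i ∈ s, c i • v i = 0 := by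
          rw [hc, map_zero, smul_zero, sub_zero]
        rw [map_sum, Finset.smul_sum, ← Finset.sum_sub_distrib, ← Finset.sum_erase_add _ _ hi0] at h2
        have h3 : f j (c i0 • v i0) - χ i0 j • c i0 • v i0 = 0 := by
          rw [map_smul, h, smul_comm, sub_self]
        rw [h3, add_zero] at h2
        rw [← h2]
        refine Finset.sum_congr rfl fun i _ => ?_
        rw [map_smul, h, smul_smul, smul_smul, ← sub_smul]
        congr 1; ring
      have h4 := ih (s.erase i0) (Finset.erase_ssubset hi0) _ h1 i1 (Finset.mem_erase.2 ⟨hne, hi1⟩)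
      exact (mul_eq_zero.1 h4).resolve_right (sub_ne_zero.2 hj)
    have h5 : c i0 • v i0 = 0 := by
      rw [← hc]
      symm
      refine Finset.sum_eq_single i0 (fun i hi hne => ?_) fun h => absurd hi0 h
      rw [key i hi hne, zero_smul]
    exact (smul_eq_zero.1 h5).resolve_right (h0 i0)

/-- Weight vectors with pairwise different weights: the dimension is at least their number. -/
theorem card_le_of_weights [FiniteDimensional k V] {ι J : Type*} [Finite ι] (f : J → V →ₗ[k] V) (v : ι → V)
    (χ : ι → J → k) (h0 : ∀ i, v i ≠ 0) (h : ∀ i j, f j (v i) = χ i j • v i) (hinj : Function.Injective χ) :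
    Nat.card ι ≤ Module.finrank k V := by
  haveI := Fintype.ofFinite ι
  rw [Nat.card_eq_fintype_card]
  exact (linearIndependent_of_weights f v χ h0 h hinj).fintype_card_le_finrank

/-- An operator of order prime to the characteristic which is not the identity on an invariant subspace has an
eigenvalue `≠ 1` there. -/
theorem exists_eigen [IsAlgClosed k] [FiniteDimensional k V] {f : V →ₗ[k] V} {N : ℕ} (hN : (N : k) ≠ 0)
    (hf : f ^ N = 1) (hne : f ≠ 1) : ∃ s : k, s ≠ 1 ∧ ∃ v, v ≠ 0 ∧ f v = s • v := by
  classical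
  set g : V →ₗ[k] V := f - 1 with hg
  have hgne : LinearMap.range g ≠ ⊥ := by
    intro h
    rw [LinearMap.range_eq_bot] at h
    exact hne (sub_eq_zero.1 h)
  have hinv : ∀ x ∈ LinearMap.range g, f x ∈ LinearMap.range g := by
    rintro _ ⟨y, rfl⟩
    refine ⟨f y, ?_⟩
    simp [hg, map_sub]
  haveI : Nontrivial (LinearMap.range g) := Submodule.nontrivial_iff_ne_bot.2 hgne
  obtain ⟨s, hs⟩ := Module.End.exists_eigenvalue (f.restrict hinv)
  obtain ⟨w, hw⟩ := hs.exists_hasEigenvector
  have hw1 : f (w : V) = s • (w : V) := by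
    have := congrArg Subtype.val hw.apply_eq_smul
    simpa using this
  have hw0 : (w : V) ≠ 0 := fun h => hw.2 (Subtype.ext h)
  refine ⟨s, ?_, w, hw0, hw1⟩
  rintro rfl
  rw [one_smul] at hw1
  obtain ⟨y, hy⟩ := w.2
  have hy' : f y = y + w := by
    rw [← hy]; simp [hg]
  have key : ∀ n : ℕ, (f ^ n) y = y + (n : k) • (w : V) := by
    intro n
    induction n with
    | zero => simp
    | succ n ih =>
      rw [pow_succ', Module.End.mul_apply, ih, map_add, map_smul, hw1, hy']
      push_cast
      rw [add_smul, one_smul]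
      abel
  have h1 := key N
  rw [hf, Module.End.one_apply] at h1
  have h2 : (N : k) • (w : V) = 0 := (left_eq_add.1 h1)
  exact hw0 ((smul_eq_zero.1 h2).resolve_left hN)

/-- A common eigenvector of a commuting family of operators. -/
theorem exists_common [IsAlgClosed k] : ∀ (n : ℕ) (V : Type w) [AddCommGroup V] [Module k V] [FiniteDimensional k V]
    [Nontrivial V] (_ : Module.finrank k V ≤ n) {J : Type u'} (f : J → V →ₗ[k] V) (_ : ∀ i j, f i * f j = f j * f i),
    ∃ v : V, v ≠ 0 ∧ ∀ j, ∃ s : k, f j v = s • v := by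
  intro n
  induction n with
  | zero =>
    intro V _ _ _ _ hn J f hf
    exact absurd (Module.finrank_pos (R := k) (M := V)) (by omega)
  | succ n ih =>
    intro V _ _ _ _ hn J f hf
    by_cases hsc : ∀ j, ∃ s : k, ∀ v, f j v = s • v
    · obtain ⟨v, hv⟩ := exists_ne (0 : V)
      exact ⟨v, hv, fun j => (hsc j).imp fun s hs => hs v⟩
    · push Not at hsc
      obtain ⟨j0, hj0⟩ := hsc
      obtain ⟨s, hs⟩ := Module.End.exists_eigenvalue (f j0)
      set E := Module.End.eigenspace (f j0) s with hE
      have hE0 : E ≠ ⊥ := hs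
      have hE1 : E ≠ ⊤ := by
        intro h
        obtain ⟨v, hv⟩ := hj0 s
        have : v ∈ E := h ▸ Submodule.mem_top
        exact hv (Module.End.mem_eigenspace_iff.1 this)
      have hinv : ∀ j, ∀ x ∈ E, f j x ∈ E := by
        intro j x hx
        rw [hE, Module.End.mem_eigenspace_iff] at hx ⊢
        rw [← Module.End.mul_apply, hf, Module.End.mul_apply, hx, map_smul]
      haveI : Nontrivial E := Submodule.nontrivial_iff_ne_bot.2 hE0
      have hlt : Module.finrank k E < Module.finrank k V := Submodule.finrank_lt hE1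
      obtain ⟨v, hv, h⟩ := ih E (by omega) (fun j => (f j).restrict (hinv j)) (fun i j => by
        ext x
        exact LinearMap.congr_fun (hf i j) (x : V))
      refine ⟨v, fun h0 => hv (Subtype.ext h0), fun j => ?_⟩
      obtain ⟨s', hs'⟩ := h j
      exact ⟨s', congrArg Subtype.val hs'⟩

/-- A weight vector with a nontrivial weight. -/
theorem exists_weight [IsAlgClosed k] {V : Type w} [AddCommGroup V] [Module k V] [FiniteDimensional k V] {J : Type u'}
    (f : J → V →ₗ[k] V)
    (hf : ∀ i j, f i * f j = f j * f i) {j0 : J} {N : ℕ} (hN : (N : k) ≠ 0) (h1 : f j0 ^ N = 1) (hne : f j0 ≠ 1) :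
    ∃ (v : V) (χ : J → k), v ≠ 0 ∧ (∀ j, f j v = χ j • v) ∧ χ j0 ≠ 1 := by
  obtain ⟨s, hs, v0, hv0, hv0'⟩ := exists_eigen hN h1 hne
  set E := Module.End.eigenspace (f j0) s with hE
  have hmem : v0 ∈ E := Module.End.mem_eigenspace_iff.2 hv0'
  have hE0 : E ≠ ⊥ := fun h => hv0 (by rw [h] at hmem; exact hmem)
  have hinv : ∀ j, ∀ x ∈ E, f j x ∈ E := by
    intro j x hx
    rw [hE, Module.End.mem_eigenspace_iff] at hx ⊢
    rw [← Module.End.mul_apply, hf, Module.End.mul_apply, hx, map_smul]
  haveI : Nontrivial E := Submodule.nontrivial_iff_ne_bot.2 hE0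
  obtain ⟨v, hv, h⟩ := exists_common _ E le_rfl (fun j => (f j).restrict (hinv j)) (fun i j => by
        ext x
        exact LinearMap.congr_fun (hf i j) (x : V))
  have h' : ∀ j, ∃ t : k, f j (v : V) = t • (v : V) := fun j => by
    obtain ⟨t, ht⟩ := h j
    exact ⟨t, congrArg Subtype.val ht⟩
  choose χ hχ using h'
  have hv' : (v : V) ≠ 0 := fun h0 => hv (Subtype.ext h0)
  refine ⟨v, χ, hv', hχ, ?_⟩
  intro h1
  have h2 := hχ j0
  rw [h1, one_smul, Module.End.mem_eigenspace_iff.1 v.2] at h2
  have h3 : (s - 1) • (v : V) = 0 := by rw [sub_smul, one_smul, h2, sub_self]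
  exact hs (sub_eq_zero.1 ((smul_eq_zero.1 h3).resolve_right hv'))

end lin

/-! ### The reduction -/

section red

variable {P : Type v} [Group P] {k : Type w} [Field k]

/-- If all commutators act trivially the action of a perfect group is trivial. -/
theorem eq_one_of_comm {M : Type*} [Monoid M] (hP : commutator P = ⊤) (ρ : P →* M)
    (h : ∀ a b, ρ (a * b) = ρ (b * a)) (g : P) : ρ g = 1 := by
  let ρ' : P →* Mˣ := ρ.toHomUnits
  have h1 : commutator P ≤ ρ'.ker := by
    rw [commutator_def, Subgroup.commutator_le]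
    intro a _ b _
    rw [MonoidHom.mem_ker, commutatorElement_def, map_mul, map_mul, map_mul, map_inv, map_inv]
    have h2 : ρ' a * ρ' b = ρ' b * ρ' a := by
      rw [← map_mul, ← map_mul]
      exact Units.ext (h a b)
    rw [h2]; group
  have h2 : g ∈ ρ'.ker := h1 (by rw [hP]; exact Subgroup.mem_top g)
  exact congrArg Units.val (MonoidHom.mem_ker.1 h2)

/-- Restriction of a representation to an invariant subspace. -/
def res {V : Type*} [AddCommGroup V] [Module k V] (ρ : P →* (V →ₗ[k] V)) (W : Submodule k V)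
    (h : ∀ g, ∀ v ∈ W, ρ g v ∈ W) : P →* (W →ₗ[k] W) where
  toFun g := (ρ g).restrict (h g)
  map_one' := by ext x; simp
  map_mul' a b := by ext x; simp

/-- The representation on the quotient by an invariant subspace. -/
def quo {V : Type*} [AddCommGroup V] [Module k V] (ρ : P →* (V →ₗ[k] V)) (W : Submodule k V)
    (h : ∀ g, ∀ v ∈ W, ρ g v ∈ W) : P →* ((V ⧸ W) →ₗ[k] (V ⧸ W)) where
  toFun g := W.mapQ W (ρ g) (h g)
  map_one' := by ext x; simp
  map_mul' a b := by ext x; simp

theorem exists_irr (hP : commutator P = ⊤) : ∀ (n : ℕ) (V : Type w) [AddCommGroup V] [Module k V]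
    [FiniteDimensional k V] (_ : Module.finrank k V ≤ n) (ρ : P →* (V →ₗ[k] V)) (_ : ∃ g, ρ g ≠ 1),
    ∃ (U : Type w) (_ : AddCommGroup U) (_ : Module k U) (_ : FiniteDimensional k U) (σ : P →* (U →ₗ[k] U)),
      Module.finrank k U ≤ Module.finrank k V ∧ (∃ g, σ g ≠ 1) ∧
      ∀ W : Submodule k U, (∀ g, ∀ v ∈ W, σ g v ∈ W) → W = ⊥ ∨ W = ⊤ := by
  intro n
  induction n with
  | zero =>
    intro V _ _ _ hn ρ hρ
    exfalso
    obtain ⟨g, hg⟩ := hρ
    have h0 : Module.finrank k V = 0 := by omega
    haveI := Module.finrank_zero_iff.1 h0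
    exact hg (Subsingleton.elim _ _)
  | succ n ih =>
    intro V _ _ _ hn ρ hρ
    by_cases hirr : ∀ W : Submodule k V, (∀ g, ∀ v ∈ W, ρ g v ∈ W) → W = ⊥ ∨ W = ⊤
    · exact ⟨V, _, _, inferInstance, ρ, le_rfl, hρ, hirr⟩
    push Not at hirr
    obtain ⟨W, hW, hW0, hW1⟩ := hirr
    by_cases h1 : ∃ g, res ρ W hW g ≠ 1
    · have hlt : Module.finrank k W < Module.finrank k V := Submodule.finrank_lt hW1
      obtain ⟨U, i1, i2, i3, σ, h2, h3⟩ := ih W (by omega) (res ρ W hW) h1
      exact ⟨U, i1, i2, i3, σ, h2.trans hlt.le, h3⟩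
    by_cases h2 : ∃ g, quo ρ W hW g ≠ 1
    · have hlt : Module.finrank k (V ⧸ W) < Module.finrank k V := by
        have h4 := Submodule.finrank_quotient_add_finrank W
        have h5 : 0 < Module.finrank k W := by
          haveI : Nontrivial W := Submodule.nontrivial_iff_ne_bot.2 hW0
          exact Module.finrank_pos
        omega
      obtain ⟨U, i1, i2, i3, σ, h4, h3⟩ := ih (V ⧸ W) (by omega) (quo ρ W hW) h2
      exact ⟨U, i1, i2, i3, σ, h4.trans hlt.le, h3⟩
    exfalso
    push Not at h1 h2
    obtain ⟨g, hg⟩ := hρ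
    apply hg
    have e1 : ∀ g, ∀ v ∈ W, ρ g v = v := fun g v hv => by
      have := LinearMap.congr_fun (h1 g) ⟨v, hv⟩
      exact congrArg Subtype.val this
    have e2 : ∀ g v, ρ g v - v ∈ W := fun g v => by
      have := LinearMap.congr_fun (h2 g) (W.mkQ v)
      have h3 : W.mkQ (ρ g v) = W.mkQ v := by simpa [quo] using this
      exact (Submodule.Quotient.eq W).1 h3
    apply eq_one_of_comm hP ρ
    intro a b
    ext v
    have h3 : ∀ a b, ρ (a * b) v = ρ a v + ρ b v - v := by
      intro a b
      rw [map_mul, Module.End.mul_apply]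
      have h4 := e1 a _ (e2 b v)
      rw [map_sub] at h4
      rw [sub_eq_iff_eq_add] at h4
      rw [h4]; abel
    rw [h3, h3]; abel

/-- **The reduction.** -/
theorem LS.of_core {r d : ℕ} {T : Type u} [Group T]
    (h : ∀ (P : Type v) [Group P] (π : P →* T) (k : Type w) [Field k] [IsAlgClosed k] (V : Type w)
      [AddCommGroup V] [Module k V] [FiniteDimensional k V] (ρ : P →* (V →ₗ[k] V)), Core r π ρ →
      d ≤ Module.finrank k V) : LS.{u, v, w} r d T := by
  intro P _ _ π hπ hc hP k _ hk n ρ hρ
  let K := AlgebraicClosure k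
  let ρ1 : P →* ((Fin n → K) →ₗ[K] (Fin n → K)) :=
    { toFun := fun g => Matrix.toLin' ((ρ g : Matrix (Fin n) (Fin n) k).map (algebraMap k K))
      map_one' := by
        simp only [map_one, Matrix.GeneralLinearGroup.coe_one]
        rw [Matrix.map_one _ (map_zero _) (map_one _), Matrix.toLin'_one]; rfl
      map_mul' := fun a b => by
        rw [map_mul, Matrix.GeneralLinearGroup.coe_mul, Matrix.map_mul, Matrix.toLin'_mul]
        rfl }
  have hne : ∃ g, ρ1 g ≠ 1 := by
    by_contra hcon
    push Not at hcon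
    apply hρ
    ext g i j
    have h1 : (ρ g : Matrix (Fin n) (Fin n) k).map (algebraMap k K) = 1 := by
      apply Matrix.toLin'.injective
      rw [Matrix.toLin'_one]
      exact hcon g
    have h2 : (ρ g : Matrix (Fin n) (Fin n) k) = 1 := by
      apply Matrix.map_injective (algebraMap k K).injective
      simp only
      rw [h1, Matrix.map_one _ (map_zero _) (map_one _)]
    rw [h2]; rfl
  obtain ⟨U, i1, i2, i3, σ, h2, h3, h4⟩ := exists_irr hP _ (Fin n → K) le_rfl ρ1 hne
  rw [Module.finrank_fin_fun] at h2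
  refine le_trans (h P π K U σ ⟨inferInstance, hπ, hc, hP, ?_, h4, ?_, h3⟩) h2
  · intro h0
    apply hk
    apply (algebraMap k K).injective
    rw [map_natCast, h0, map_zero]
  · intro c hc
    haveI : Nontrivial U := by
      obtain ⟨g, hg⟩ := h3
      by_contra hcon
      rw [not_nontrivial_iff_subsingleton] at hcon
      exact hg (Subsingleton.elim _ _)
    obtain ⟨s, hs⟩ := Module.End.exists_eigenvalue (σ c)
    refine ⟨s, fun v => ?_⟩
    have hinv : ∀ g, ∀ v ∈ Module.End.eigenspace (σ c) s, σ g v ∈ Module.End.eigenspace (σ c) s := by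
      intro g v hv
      rw [Module.End.mem_eigenspace_iff] at hv ⊢
      rw [← Module.End.mul_apply, ← map_mul, ← hc g, map_mul, Module.End.mul_apply, hv, map_smul]
    have htop := (h4 _ hinv).resolve_left hs
    have : v ∈ Module.End.eigenspace (σ c) s := htop ▸ Submodule.mem_top
    exact Module.End.mem_eigenspace_iff.1 this

end red

/-! ### Consequences for simple `T` -/

namespace Core

variable {r : ℕ} {P : Type v} {T : Type u} [Group P] [Group T] {π : P →* T} {k : Type w} [Field k]
  {V : Type w} [AddCommGroup V] [Module k V] {ρ : P →* (V →ₗ[k] V)}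

theorem comm_ker (h : Core r π ρ) {c : P} (hc : π c = 1) (g : P) : g * c = c * g :=
  Subgroup.mem_center_iff.1 (h.cen (MonoidHom.mem_ker.2 hc)) g

theorem inj (_ : Core r π ρ) (g : P) {v v' : V} (hv : ρ g v = ρ g v') : v = v' := by
  have h1 : ∀ v, ρ g⁻¹ (ρ g v) = v := fun v => by
    rw [← Module.End.mul_apply, ← map_mul, inv_mul_cancel, map_one, Module.End.one_apply]
  rw [← h1 v, hv, h1]

theorem ne_zero (h : Core r π ρ) (g : P) {v : V} (hv : v ≠ 0) : ρ g v ≠ 0 := fun h0 =>
  hv (h.inj g (by rw [h0, map_zero]))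

/-- No element outside `ker π` acts as a scalar if `T` is simple. -/
theorem not_scalar [IsSimpleGroup T] (h : Core r π ρ) {x : P} (hx : π x ≠ 1) {s : k} (hs : ∀ v, ρ x v = s • v) :
    False := by
  -- the elements acting as scalars
  have hnt : ∃ v : V, v ≠ 0 := by
    obtain ⟨g, hg⟩ := h.ne
    by_contra hcon
    push Not at hcon
    exact hg (LinearMap.ext fun v => by rw [hcon v, map_zero, map_zero])
  let N : Subgroup P :=
    { carrier := {g | ∃ s : k, ∀ v, ρ g v = s • v}
      one_mem' := ⟨1, fun v => by simp⟩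
      mul_mem' := by
        rintro a b ⟨s, hs⟩ ⟨t, ht⟩
        exact ⟨s * t, fun v => by rw [map_mul, Module.End.mul_apply, ht, map_smul, hs, smul_smul, mul_comm]⟩
      inv_mem' := by
        rintro a ⟨s, hs⟩
        refine ⟨s⁻¹, fun v => ?_⟩
        obtain ⟨v0, hv0⟩ := hnt
        have hs0 : s ≠ 0 := by
          rintro rfl
          exact h.ne_zero a hv0 (by rw [hs, zero_smul])
        apply h.inj a
        rw [← Module.End.mul_apply, ← map_mul, mul_inv_cancel, map_one, Module.End.one_apply, hs, smul_smul,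
          mul_inv_cancel₀ hs0, one_smul] }
  haveI hN : N.Normal := by
    constructor
    rintro a ⟨s, hs⟩ g
    refine ⟨s, fun v => ?_⟩
    rw [map_mul, map_mul, Module.End.mul_apply, Module.End.mul_apply, hs, map_smul, ← Module.End.mul_apply,
      ← map_mul, mul_inv_cancel, map_one, Module.End.one_apply]
  have hker : π.ker ≤ N := fun c hc => h.sc c (h.comm_ker (MonoidHom.mem_ker.1 hc))
  have hmap : (N.map π).Normal := hN.map π h.surj
  have hNtop : N = ⊤ := by
    rcases IsSimpleGroup.eq_bot_or_eq_top_of_normal _ hmap with h1 | h1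
    · exfalso
      apply hx
      have : π x ∈ N.map π := ⟨x, ⟨s, hs⟩, rfl⟩
      rw [h1] at this
      exact this
    · have h2 := Subgroup.comap_map_eq π N
      rw [h1, Subgroup.comap_top, sup_eq_left.2 hker] at h2
      exact h2.symm
  obtain ⟨g, hg⟩ := h.ne
  apply hg
  apply eq_one_of_comm h.perf ρ
  intro a b
  have ha : a ∈ N := hNtop ▸ Subgroup.mem_top a
  obtain ⟨s, hs⟩ := ha
  ext v
  rw [map_mul, map_mul, Module.End.mul_apply, Module.End.mul_apply, hs, hs, map_smul]

/-- An element outside `ker π` is not the identity in `ρ`. -/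
theorem ne_one [IsSimpleGroup T] (h : Core r π ρ) {x : P} (hx : π x ≠ 1) : ρ x ≠ 1 := fun h1 =>
  h.not_scalar hx (s := 1) fun v => by rw [h1, Module.End.one_apply, one_smul]

end Core

end Cfsg.Agent.H203.LS
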