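import Cfsg.Agent.H203.LSTrace
import Cfsg.Agent.Nodes.RGDTwActE6
import Cfsg.Agent.S1070
import Cfsg.Agent.ChevalleyStructure.FixedCard

/-!
# `²E₆(q)`, all `q`: the bound `(q - 1) q ^ 6`, arbitrary kernels
-/

set_option autoImplicit false
set_option linter.dupNamespace false
set_option linter.style.haveILetI false
set_option linter.unusedSectionVars false

universe u v w

namespace Cfsg.Agent.H203.LS.TwE6

open CoxeterSystem Cfsg.Agent.ChevalleyStructure.CoxeterGeom Cfsg.Agent.Tits.Roots Cfsg.Agent.Tits.Core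
  Cfsg.Agent.Nodes.BNOf Cfsg.Agent.Nodes.RGDTwGen Cfsg.Agent.Nodes.RGDChev Cfsg.Agent.Nodes.RGDFold
  Cfsg.Agent.Nodes.RGDFoldSL Cfsg.Agent.Nodes.RGDTwE6 Cfsg.Agent.Nodes.RGDTwTab Cfsg.Agent.Nodes.RGDTwCoordE6
  Cfsg.Agent.Nodes.RGDTwCoord Cfsg.Agent.Nodes.RGDTwComE6 Cfsg.Agent.Nodes.RGDTwActE6
open Cfsg.Lie Cfsg.Agent.ChevalleyStructure
  Cfsg.Agent.ChevalleyStructure.TwistedU Cfsg.Agent.ChevalleyStructure.TwistedFix
open Cfsg.Agent.ChevalleyStructure.TwE6Basic (sg)
open scoped commutatorElement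

/-! ### Roots -/

/-- the roots -/
def rt (i : ℕ) : Fin 4 → ℤ := ![(vtab.getD i (0, 0, 0, 0)).1, (vtab.getD i (0, 0, 0, 0)).2.1,
  (vtab.getD i (0, 0, 0, 0)).2.2.1, (vtab.getD i (0, 0, 0, 0)).2.2.2]

/-- the Coxeter system -/
noncomputable abbrev cs : CoxeterSystem CoxeterMatrix.F₄ CoxeterMatrix.F₄.Group := CoxeterMatrix.F₄.toCoxeterSystem

theorem isRoot_rt {i : ℕ} (hi : i < 48) : IsRoot cs isCartan (rt i) := by
  have h1 : (O.getD i []).headD 0 < chevE6.nroots := by
    have : ∀ i < 48, (O.getD i []).headD 0 < chevE6.nroots := by decide +kernel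
    exact this i hi
  have h2 := isRoot_V (cs := cs) h1
  rw [vec_eq hi] at h2
  exact h2

/-- commuting roots -/
def com (i j : ℕ) : Bool := decide (Qv (rt i + rt j) ≠ 2) && decide (Qv (rt i + rt j) ≠ 4) &&
  decide (Qv (rt i + rt j) ≠ 0)

theorem N_sq (z w : Fin 4 → ℤ) : N z w * N z w = 1 := by
  have h1 : ∀ r, dl r * dl r = 1 := by
    intro r
    unfold dl
    split_ifs <;> norm_num
  have h2 : ∀ n, dc n * dc n = 1 := by
    intro n
    unfold dc
    split_ifs <;> norm_num
  have h3 : ∀ r s, NN dgE6 dl r s * NN dgE6 dl r s = 1 := by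
    intro r s
    unfold NN
    have e : dl (dk (dgE6 r s)) * dc (dgE6 r s) * dl r * dl s * (dl (dk (dgE6 r s)) * dc (dgE6 r s) * dl r * dl s) =
        (dl (dk (dgE6 r s)) * dl (dk (dgE6 r s))) * (dc (dgE6 r s) * dc (dgE6 r s)) * (dl r * dl r) * (dl s * dl s) := by
      ring
    rw [e, h1, h2, h1, h1]
    norm_num
  unfold N
  split_ifs <;> exact h3 _ _

section

variable {K : Type u} [Field K] [Fintype K] {q : ℕ} {φ : K →+* K} (hφ : ∀ x, φ x = x ^ q)
  (hqq : ∀ t : K, (t ^ q) ^ q = t)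

/-- the root elements -/
noncomputable def xx (φ : K →+* K) (q : ℕ) (i : ℕ) (a : K) : ↥(twistedE6 K q) := x φ q (rt i) a

/-- the structure constants in `K` -/
def nn' (K : Type u) [Field K] (i j : ℕ) : K := ((N (rt i) (rt j) : ℤ) : K)

theorem nn'_sq (i j : ℕ) : nn' K i j * nn' K i j = 1 := by
  unfold nn'
  rw [← Int.cast_mul, N_sq, Int.cast_one]

theorem nn'_fix (i j : ℕ) : φ (nn' K i j) = nn' K i j := map_intCast φ _

include hφ hqq

theorem xcomm {i j : ℕ} (hi : i < 48) (hj : j < 48) (h : com i j = true) (a b : K) :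
    xx φ q i a * xx φ q j b = xx φ q j b * xx φ q i a := by
  unfold com at h
  simp only [Bool.and_eq_true, decide_eq_true_eq] at h
  refine (comm_nil hφ hqq (isRoot_rt hi) (isRoot_rt hj) ?_ ?_ a b).eq
  · intro hr
    rcases long_or_short hr with h1 | h1
    · exact h.1.2 h1
    · exact h.1.1 h1
  · intro he
    apply h.2
    rw [he, add_neg_cancel]
    rfl

theorem xadd {i : ℕ} (hi : i < 48) (hs : St (rt i)) (a b : K) : xx φ q i (a + b) = xx φ q i a * xx φ q i b :=
  x_add hφ hqq (isRoot_rt hi) (ok_short hφ hqq (isRoot_rt hi) hs a) (ok_short hφ hqq (isRoot_rt hi) hs b)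

theorem xaddL {i : ℕ} (hi : i < 48) (hs : Lg (rt i)) {a b : K} (ha : φ a = a) (hb : φ b = b) :
    xx φ q i (a + b) = xx φ q i a * xx φ q i b :=
  x_add hφ hqq (isRoot_rt hi) (ok_long (isRoot_rt hi) hs ha) (ok_long (isRoot_rt hi) hs hb)

/-- trace commutators -/
theorem ctrace {i j k : ℕ} (hi : i < 48) (hj : j < 48) (hk : k < 48) (e : rt i + rt j = rt k) (si : St (rt i))
    (sj : St (rt j)) (lk : Lg (rt k)) (a b : K) : xx φ q i a * xx φ q j b * (xx φ q i a)⁻¹ * (xx φ q j b)⁻¹ =
      xx φ q k (nn' K i j * (a * φ b + φ a * b)) := by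
  have h := comm_trace hφ hqq (isRoot_rt hi) (isRoot_rt hj) (by rw [e]; exact isRoot_rt hk) si sj (by rw [e]; exact lk) a b
  rw [commutatorElement_def, e] at h
  exact h

/-- short commutators -/
theorem cshort {i j k : ℕ} (hi : i < 48) (hj : j < 48) (hk : k < 48) (e : rt i + rt j = rt k) (si : St (rt i))
    (sj : St (rt j)) (sk : St (rt k)) (a b : K) : xx φ q i a * xx φ q j b * (xx φ q i a)⁻¹ * (xx φ q j b)⁻¹ =
      xx φ q k (nn' K i j * φ (a * b)) := by
  have h := comm_short hφ hqq (isRoot_rt hi) (isRoot_rt hj) (by rw [e]; exact isRoot_rt hk) si sj (by rw [e]; exact sk) a b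
  rw [commutatorElement_def, e] at h
  exact h

/-- long commutators -/
theorem clong {i j k : ℕ} (hi : i < 48) (hj : j < 48) (hk : k < 48) (e : rt i + rt j = rt k) (li : Lg (rt i))
    (lj : Lg (rt j)) {a b : K} (ha : φ a = a) (hb : φ b = b) :
    xx φ q i a * xx φ q j b * (xx φ q i a)⁻¹ * (xx φ q j b)⁻¹ = xx φ q k (nn' K i j * (a * b)) := by
  have h := (comm_long hφ hqq (isRoot_rt hi) (isRoot_rt hj) (by rw [e]; exact isRoot_rt hk) li lj ha hb).2
  rw [commutatorElement_def, e] at h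
  exact h

/-- quadratic commutators -/
theorem cquad {i j k m : ℕ} (hi : i < 48) (hj : j < 48) (hk : k < 48) (e : rt i + rt j = rt k)
    (e' : rt i + (2 : ℤ) • rt j = rt m) (li : Lg (rt i)) (sj : St (rt j)) (b : K) :
    ∃ c : K, φ c = c ∧ xx φ q i 1 * xx φ q j b * (xx φ q i 1)⁻¹ * (xx φ q j b)⁻¹ =
      xx φ q k (nn' K i j * b) * xx φ q m c := by
  have h := (comm_quad hφ hqq (isRoot_rt hi) (isRoot_rt hj) (by rw [e]; exact isRoot_rt hk) li sj (map_one φ) b).2.2.2
  rw [commutatorElement_def, e, e', one_mul] at h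
  refine ⟨_, ?_, h⟩
  rw [map_mul, map_intCast, one_mul, map_mul, phi_phi hφ hqq, mul_comm b]

/-- `x_ρ` and everything which commutes with the pair `27, 46` -/
theorem sX {j : ℕ} (hj : j < 48) (h1 : com 27 j = true) (h2 : com 46 j = true) {s : K} (hs : φ s = s) (b : K) :
    SC.{u, v} (xx φ q 47 s) (xx φ q j b) := by
  have h := clong (i := 27) (j := 46) (k := 47) hφ hqq (by norm_num) (by norm_num) (by norm_num) (by decide +kernel)
    (by decide +kernel) (by decide +kernel) (a := nn' K 27 46 * s) (b := 1) (by rw [map_mul, nn'_fix, hs]) (map_one φ)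
  rw [mul_one, ← mul_assoc, nn'_sq, one_mul] at h
  rw [← h]
  exact SC.of_commutator (xcomm hφ hqq (by norm_num) hj h1 _ _) (xcomm hφ hqq (by norm_num) hj h2 _ _)

/-- a short root and itself -/
theorem sS {i j k l : ℕ} (hi : i < 48) (hj : j < 48) (hk : k < 48) (hl : l < 48) (e : rt i + rt j = rt k)
    (si : St (rt i)) (sj : St (rt j)) (sk : St (rt k)) (h1 : com i l = true) (h2 : com j l = true) (a b : K) :
    SC.{u, v} (xx φ q k a) (xx φ q l b) := by
  have h := cshort hφ hqq hi hj hk e si sj sk (nn' K i j * φ a) 1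
  rw [mul_one, map_mul, nn'_fix, phi_phi hφ hqq, ← mul_assoc, nn'_sq, one_mul] at h
  rw [← h]
  exact SC.of_commutator (xcomm hφ hqq hi hl h1 _ _) (xcomm hφ hqq hj hl h2 _ _)

/-- two short roots -/
theorem sQ {i j k l : ℕ} (hi : i < 48) (hj : j < 48) (hk : k < 48) (hl : l < 48) (e : rt i + rt j = rt k)
    (e' : rt i + (2 : ℤ) • rt j = rt 47) (li : Lg (rt i)) (sj : St (rt j)) (h1 : com i l = true) (h2 : com j l = true)
    (h3 : com 27 l = true) (h4 : com 46 l = true) (a b : K) : SC.{u, v} (xx φ q k a) (xx φ q l b) := by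
  obtain ⟨c, hc, h⟩ := cquad hφ hqq hi hj hk e e' li sj (nn' K i j * a)
  rw [← mul_assoc, nn'_sq, one_mul] at h
  have h5 : xx φ q k a = (xx φ q i 1 * xx φ q j (nn' K i j * a) * (xx φ q i 1)⁻¹ * (xx φ q j (nn' K i j * a))⁻¹) *
      (xx φ q 47 c)⁻¹ := by rw [h]; group
  rw [h5, ← mem_cenSC]
  exact mul_mem (SC.of_commutator (xcomm hφ hqq hi hl h1 _ _) (xcomm hφ hqq hj hl h2 _ _))
    (inv_mem (sX hφ hqq hl h3 h4 hc b))

/-! ### The system -/

omit hφ hqq in
/-- the roots of the family `A` -/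
def iA : Fin 3 → ℕ := ![33, 35, 38]

omit hφ hqq in
/-- the roots of the family `B` -/
def iB : Fin 3 → ℕ := ![44, 43, 41]

/-- helper roots -/
def iC : Fin 3 → ℕ := ![10, 15, 21]

def iC' : Fin 3 → ℕ := ![37, 32, 26]

def iG (i j : Fin 3) : ℕ := if i = 0 then (if j = 1 then 24 else 28) else 25

theorem sys (hne : ∃ a, φ a ≠ a) : Trace.TrSys.{u, v} φ (xx φ q 47) (fun i a => xx φ q (iA i) a)
    (fun i b => xx φ q (iB i) (nn' K (iA i) (iB i) * φ b)) where
  inv := phi_phi hφ hqq
  ne := hne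
  addX s t hs ht := xaddL hφ hqq (by norm_num) (by decide +kernel) hs ht
  addA i s t := xadd hφ hqq (by fin_cases i <;> decide) (by fin_cases i <;> decide +kernel) s t
  addB i s t := by
    show xx φ q (iB i) _ = xx φ q (iB i) _ * xx φ q (iB i) _
    rw [← xadd hφ hqq (by fin_cases i <;> decide) (by fin_cases i <;> decide +kernel), map_add, mul_add]
  comm i a b := by
    have h := ctrace hφ hqq (i := iA i) (j := iB i) (k := 47) (by fin_cases i <;> decide) (by fin_cases i <;> decide)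
      (by norm_num) (by fin_cases i <;> decide +kernel) (by fin_cases i <;> decide +kernel)
      (by fin_cases i <;> decide +kernel) (by decide +kernel) a (nn' K (iA i) (iB i) * φ b)
    refine h.trans (congrArg _ ?_)
    rw [map_mul, nn'_fix, phi_phi hφ hqq, map_mul]
    have := nn'_sq (K := K) (iA i) (iB i)
    linear_combination (a * b + φ a * φ b) * this
  XX s t hs ht := sX hφ hqq (by norm_num) (by decide +kernel) (by decide +kernel) hs t
  XA i s a hs := sX hφ hqq (by fin_cases i <;> decide) (by fin_cases i <;> decide +kernel)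
    (by fin_cases i <;> decide +kernel) hs a
  XB i s b hs := sX hφ hqq (by fin_cases i <;> decide) (by fin_cases i <;> decide +kernel)
    (by fin_cases i <;> decide +kernel) hs _
  AA := by
    have key : ∀ i j : Fin 3, i ≠ j → ∀ a b : K, SC.{u, v} (xx φ q (iA i) a) (xx φ q (iA j) b) := by
      intro i j hij a b
      have h1 : iC i < 48 ∧ iB i < 48 ∧ iA i < 48 ∧ iA j < 48 := by revert i j; decide
      have h2 : rt (iC i) + rt (iB i) = rt (iA i) ∧ rt (iC i) + (2 : ℤ) • rt (iB i) = rt 47 ∧ Lg (rt (iC i)) ∧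
          St (rt (iB i)) := by revert i j; decide +kernel
      have h3 : com (iC i) (iA j) = true ∧ com (iB i) (iA j) = true ∧ com 27 (iA j) = true ∧ com 46 (iA j) = true := by
        revert i j; decide +kernel
      exact sQ hφ hqq h1.1 h1.2.1 h1.2.2.1 h1.2.2.2 h2.1 h2.2.1 h2.2.2.1 h2.2.2.2 h3.1 h3.2.1 h3.2.2.1 h3.2.2.2 a b
    intro i j a b
    by_cases hij : i = j
    · subst hij
      fin_cases i
      · exact sS hφ hqq (i := 13) (j := 43) (k := 33) (l := 33) (by norm_num) (by norm_num) (by norm_num) (by norm_num)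
          (by decide +kernel) (by decide +kernel) (by decide +kernel) (by decide +kernel) (by decide +kernel)
          (by decide +kernel) a b
      · exact sS hφ hqq (i := 13) (j := 44) (k := 35) (l := 35) (by norm_num) (by norm_num) (by norm_num) (by norm_num)
          (by decide +kernel) (by decide +kernel) (by decide +kernel) (by decide +kernel) (by decide +kernel)
          (by decide +kernel) a b
      · exact sS hφ hqq (i := 16) (j := 44) (k := 38) (l := 38) (by norm_num) (by norm_num) (by norm_num) (by norm_num)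
          (by decide +kernel) (by decide +kernel) (by decide +kernel) (by decide +kernel) (by decide +kernel)
          (by decide +kernel) a b
    · exact key i j hij a b
  BA i j hij a b := by
    have h1 : iC' i < 48 ∧ iA i < 48 ∧ iB i < 48 ∧ iA j < 48 := by revert i j; decide
    have h2 : rt (iC' i) + rt (iA i) = rt (iB i) ∧ rt (iC' i) + (2 : ℤ) • rt (iA i) = rt 47 ∧ Lg (rt (iC' i)) ∧
        St (rt (iA i)) := by clear hij; revert i j; decide +kernel
    have h3 : com (iC' i) (iA j) = true ∧ com (iA i) (iA j) = true ∧ com 27 (iA j) = true ∧ com 46 (iA j) = true := by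
      revert i j; decide +kernel
    exact sQ hφ hqq h1.1 h1.2.1 h1.2.2.1 h1.2.2.2 h2.1 h2.2.1 h2.2.2.1 h2.2.2.2 h3.1 h3.2.1 h3.2.2.1 h3.2.2.2 _ b
  tie i j hij t := by
    have hb : iG i j < 48 ∧ iA i < 48 ∧ iA j < 48 ∧ iB i < 48 ∧ iB j < 48 := by revert i j; decide
    have hr : rt (iG i j) + rt (iA i) = rt (iA j) ∧ rt (iG i j) + rt (iB j) = rt (iB i) := by
      revert i j; decide +kernel
    have hs : St (rt (iG i j)) ∧ St (rt (iA i)) ∧ St (rt (iA j)) ∧ St (rt (iB i)) ∧ St (rt (iB j)) := by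
      clear hr; revert i j; decide +kernel
    have hcc : com (iA i) (iA j) = true ∧ com (iB j) (iB i) = true := by revert i j; decide +kernel
    have hN : N (rt (iG i j)) (rt (iA i)) * N (rt (iG i j)) (rt (iB j)) * N (rt (iA i)) (rt (iB i)) *
        N (rt (iA j)) (rt (iB j)) = -1 := by clear hr; revert i j; decide +kernel
    have hN' : nn' K (iG i j) (iA i) * nn' K (iG i j) (iB j) * nn' K (iA i) (iB i) * nn' K (iA j) (iB j) = -1 := by
      unfold nn'
      rw [← Int.cast_mul, ← Int.cast_mul, ← Int.cast_mul, hN]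
      simp
    refine ⟨xx φ q (iG i j) (nn' K (iG i j) (iA i) * t), fun a => ?_, fun b => ?_⟩
    · have h := cshort hφ hqq hb.1 hb.2.1 hb.2.2.1 hr.1 hs.1 hs.2.1 hs.2.2.1 (nn' K (iG i j) (iA i) * t) a
      have h1 := xcomm hφ hqq hb.2.1 hb.2.2.1 hcc.1 a (φ (t * a))
      have e : nn' K (iG i j) (iA i) * φ (nn' K (iG i j) (iA i) * t * a) = φ (t * a) := by
        rw [mul_assoc, map_mul, nn'_fix, ← mul_assoc, nn'_sq, one_mul]
      rw [e] at h
      rw [h1, ← h]
      group
    · have h := cshort hφ hqq hb.1 hb.2.2.2.2 hb.2.2.2.1 hr.2 hs.1 hs.2.2.2.2 hs.2.2.2.1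
        (nn' K (iG i j) (iA i) * t) (nn' K (iA j) (iB j) * φ b)
      have h1 := xcomm hφ hqq hb.2.2.2.2 hb.2.2.2.1 hcc.2 (nn' K (iA j) (iB j) * φ b)
        (nn' K (iA i) (iB i) * φ (-(t * φ b)))
      have e : nn' K (iG i j) (iB j) * φ (nn' K (iG i j) (iA i) * t * (nn' K (iA j) (iB j) * φ b)) =
          nn' K (iA i) (iB i) * φ (-(t * φ b)) := by
        have s1 := nn'_sq (K := K) (iA i) (iB i)
        simp only [map_mul, map_neg, nn'_fix, phi_phi hφ hqq]
        linear_combination (nn' K (iA i) (iB i) * φ t * b) * hN' -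
          (nn' K (iG i j) (iA i) * nn' K (iG i j) (iB j) * nn' K (iA j) (iB j) * φ t * b) * s1
      rw [e] at h
      show _ = xx φ q (iB j) (nn' K (iA j) (iB j) * φ b) * xx φ q (iB i) (nn' K (iA i) (iB i) * φ (-(t * φ b)))
      rw [h1, ← h]
      group

end

theorem tor {K : Type u} [Field K] [Fintype K] {q : ℕ} {φ : K →+* K} (hφ : ∀ x, φ x = x ^ q)
    (hqq : ∀ t : K, (t ^ q) ^ q = t) {x : K} (hx : φ x = x) (hx0 : x ≠ 0) {i : ℕ} (hi : i < 48) (hs : St (rt i))
    {n : ℤ} (hn : pairing Cfsg.Agent.Nodes.RGDTwE6.A 0 (rt i) = n) (a : K) :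
    hh φ q 0 x * xx φ q i a * (hh φ q 0 x)⁻¹ = xx φ q i (x ^ n * a) := by
  have h := (conj_hh hφ hqq (isRoot_rt hi) (j := 0) (d := x) hx0 (Or.inr hx)
    (ok_short hφ hqq (isRoot_rt hi) hs a)).2
  have e : sc φ 0 (rt i) x = x ^ n := by
    unfold sc
    rw [if_pos (by decide), hn]
  rw [e] at h
  exact h

/-- **`LS` for `²E₆(q)`: `(q - 1) q ^ 6`.** -/
theorem ls {K : Type u} [Field K] [Fintype K] {q r : ℕ} [CharP K r] (hq : IsPrimePow q) (hK : Fintype.card K = q ^ 2) :
    LS.{u, v, w} r ((q - 1) * q ^ 6) ↥(twistedE6 K q) := by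
  haveI := (Cfsg.Agent.S1070.result hq hK).1
  obtain ⟨φ, hφ, hqq⟩ := Cfsg.Agent.ChevalleyStructure.TwE6Basic.exists_frob hq hK
  have hne : ∃ a, φ a ≠ a := by
    by_contra hcon
    push Not at hcon
    have h1 := Cfsg.Agent.ChevalleyStructure.FixedCard.card_fixed hq.one_lt hK
    have h2 : Nat.card {t : K // t ^ q = t} = Nat.card K :=
      Nat.card_congr ⟨fun x => x.1, fun x => ⟨x, by rw [← hφ]; exact hcon x⟩, fun _ => rfl, fun _ => rfl⟩
    rw [h1, Nat.card_eq_fintype_card, hK] at h2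
    have h3 : q ^ 1 < q ^ 2 := Nat.pow_lt_pow_right hq.one_lt (by norm_num)
    rw [pow_one] at h3
    omega
  have S := sys hφ hqq hne
  have hcF : Nat.card (Trace.Fx φ) = q := by
    rw [← Cfsg.Agent.ChevalleyStructure.FixedCard.card_fixed hq.one_lt hK]
    exact Nat.card_congr (Equiv.subtypeEquivRight fun x => by
      show φ x = x ↔ _
      rw [hφ])
  have key := Trace.ls.{u, v, w} S (r := r) (by
      intro h
      exact one_ne_zero ((x_eq_one_iff hφ hqq (isRoot_rt (i := 47) (by norm_num)) (ok_one _)).1 h))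
    (fun x hx hx0 => ⟨hh φ q 0 x, fun i a => by
        have h := tor hφ hqq hx hx0 (i := iA i) (by fin_cases i <;> decide) (by fin_cases i <;> decide +kernel)
          (n := 1) (by fin_cases i <;> decide +kernel) a
        rwa [zpow_one] at h,
      fun i b => by
        have h := tor hφ hqq hx hx0 (i := iB i) (by fin_cases i <;> decide) (by fin_cases i <;> decide +kernel)
          (n := 0) (by fin_cases i <;> decide +kernel) (nn' K (iA i) (iB i) * φ b)
        rwa [zpow_zero, one_mul] at h⟩)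
  rw [hcF, Nat.card_eq_fintype_card, hK, ← pow_mul] at key
  exact key

end Cfsg.Agent.H203.LS.TwE6
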