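import Cfsg.Agent.AutOrth.Main
import Cfsg.Agent.H934.HeisSq
import Cfsg.Agent.H912.Bd4

/-!
# Degree bounds in cross characteristic for the orthogonal groups: the Heisenberg group of a long root

`bd_of_D0`: the bound `(|K| - 1)² |W| ≤ n²` from coordinates `D0` for a special group with a torus scaling its centre.
`bd_pomega_odd_heis`, `bd_pomega_plus_heis`, `bd_pomega_minus_heis`: `(q - 1) q ^ (dim V - 4) ≤ n`.
-/

set_option autoImplicit false

namespace Cfsg.Agent.H203.OrthHeis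

open QuadraticMap Cfsg.Agent.LieClassical.OrthCore Cfsg.Agent.LieClassical.OrthTrans
  Cfsg.Agent.LieClassical.OrthSimple Cfsg.Agent.AutOrth.SemiSim Cfsg.Agent.AutOrth.Gen
  Cfsg.Agent.ClassicalGeometry.OrthAut1 Cfsg.Agent.H934.HeisSq Cfsg.Agent.H912.Bd

universe u v w

theorem bd_of_D0 {K : Type v} [Field K] [Finite K] {T : Type w} [Group T] {W : Type v} [AddCommGroup W] [Finite W]
    (D : D0 T W K) {r : ℕ} (hr : r.Prime) {k : ℕ} (hk : Nat.card W * Nat.card K = r ^ k) (h : K → T)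
    (hh : ∀ c a, c ≠ 0 → h c * D.z a * (h c)⁻¹ = D.z (c * a)) {F : Type u} [Field F] (hrF : (r : F) ≠ 0)
    {n : ℕ} (hP : PR F n r T) : (Nat.card K - 1) ^ 2 * Nat.card W ≤ n ^ 2 := by
  classical
  have := Fact.mk hr
  have := Fintype.ofFinite K
  have hQcard : Nat.card D.Qg = r ^ k := by rw [D.card_Qg, hk]
  have hQfin : Finite D.Qg := Nat.finite_of_card_ne_zero (by rw [hQcard]; exact (pow_pos hr.pos _).ne')
  have hQr : IsPGroup r D.Qg := IsPGroup.of_card hQcard
  have hinj : ∀ a b, D.z a = D.z b → a = b := by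
    intro a b hab
    have h3 : D.z (a - b) = 1 := by rw [sub_eq_add_neg, D.z_add, D.z_neg, hab, mul_inv_cancel]
    exact sub_eq_zero.1 (D.z_inj _ h3)
  have hSinj : Set.InjOn h ((Finset.univ.erase (0 : K) : Finset K) : Set K) := by
    intro c hc d hd hcd
    have hc0 : c ≠ 0 := (Finset.mem_erase.1 hc).1
    have hd0 : d ≠ 0 := (Finset.mem_erase.1 hd).1
    have h1 := hh c 1 hc0
    rw [hcd, hh d 1 hd0, mul_one, mul_one] at h1
    exact (hinj _ _ h1).symm
  have hScard : ((Finset.univ.erase (0 : K)).image h).card = Nat.card K - 1 := by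
    rw [Finset.card_image_of_injOn hSinj, Finset.card_erase_of_mem (Finset.mem_univ _), Finset.card_univ,
      Nat.card_eq_fintype_card]
  have key := hP.bound_heis hr hrF D.Zg D.Qg (fun g hg => by obtain ⟨a, rfl⟩ := hg; exact D.z_mem_Qg a)
    (fun x hx e he => by obtain ⟨a, rfl⟩ := he; exact D.zQ_comm hx a) hQr (e₀ := D.z 1) ⟨1, rfl⟩
    (fun h0 => one_ne_zero (D.z_inj _ h0)) ((Finset.univ.erase (0 : K)).image h)
    (by
      intro s hs e he
      obtain ⟨c, hc, rfl⟩ := Finset.mem_image.1 hs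
      obtain ⟨a, rfl⟩ := he
      exact ⟨c * a, (hh c a (Finset.mem_erase.1 hc).1).symm⟩)
    (by
      intro s hs t ht hst
      obtain ⟨c, hc, rfl⟩ := Finset.mem_image.1 hs
      obtain ⟨d, hd, rfl⟩ := Finset.mem_image.1 ht
      have hcd : c - d ≠ 0 := fun h0 => hst (by rw [sub_eq_zero.1 h0])
      refine ⟨D.z (c - d)⁻¹, ⟨_, rfl⟩, ?_⟩
      rw [hh c _ (Finset.mem_erase.1 hc).1, hh d _ (Finset.mem_erase.1 hd).1, ← D.z_neg, ← D.z_add]
      congr 1
      rw [← sub_eq_add_neg, ← sub_mul, mul_inv_cancel₀ hcd])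
    (by
      rintro _ ⟨v, a, rfl⟩ _ ⟨w, b, rfl⟩
      exact ⟨D.om v w, (D.comm_eq v w a b).symm⟩)
    (by
      rintro _ ⟨v, a, rfl⟩ hyE
      have hv : v ≠ 0 := by
        rintro rfl
        apply hyE
        obtain ⟨c, hc⟩ := D.exists_X_zero
        exact ⟨c + a, by rw [D.z_add, ← hc]⟩
      obtain ⟨w, hw⟩ := D.special v hv (-1)
      refine ⟨D.X w, D.X_mem_Qg w, ?_⟩
      have h1 := D.comm_eq v w a 0
      rw [D.z_zero, mul_one, hw, D.z_neg] at h1
      have h2 : D.X w * (D.X v * D.z a) * (D.X w)⁻¹ * (D.X v * D.z a)⁻¹ =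
          ((D.X v * D.z a) * D.X w * (D.X v * D.z a)⁻¹ * (D.X w)⁻¹)⁻¹ := by group
      rw [h2, h1, inv_inv])
  have hZcard : Nat.card D.Zg = Nat.card K := D.card_Zg
  rw [hScard, D.card_Qg, hZcard, ← mul_assoc] at key
  exact Nat.le_of_mul_le_mul_right key Nat.card_pos


/-! ### The geometry -/

section geo

variable {K V : Type v} [Field K] [AddCommGroup V] [Module K V] {Q : QuadraticForm K V}

/-- Three mutually orthogonal hyperbolic pairs (as far as needed). -/
structure Tri (Q : QuadraticForm K V) (e f e' f' e'' f'' : V) : Prop where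
  h1 : Hyp Q e f
  h2 : Hyp Q e' f'
  h3 : Hyp Q e'' f''
  o1 : polar Q e e' = 0
  o2 : polar Q e f' = 0
  o3 : polar Q f e' = 0
  o4 : polar Q f f' = 0
  o5 : polar Q e e'' = 0
  o6 : polar Q e f'' = 0
  o7 : polar Q f e'' = 0
  o8 : polar Q f f'' = 0
  o9 : polar Q e' e'' = 0
  o10 : polar Q e' f'' = 0

theorem exists_tri [Finite K] (hQ : Nondeg Q) (h7 : 7 ≤ Module.finrank K V) :
    ∃ e f e' f' e'' f'', Tri Q e f e' f' e'' f'' := by
  have hG : Good Q := Cfsg.Agent.LieClassical.OrthFinite.good_of_finite hQ (by omega)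
  obtain ⟨e, f, h⟩ := hG.exists_hyp
  obtain ⟨e', f', h', o1, o2, o3, o4⟩ := hG.exists_hyp2 h
  obtain ⟨w, hw0, hw, hp⟩ := Cfsg.Agent.LieClassical.OrthFinite.exists_sing_perp (Q := Q) (n := 4) ![e, f, e', f']
    (by omega)
  have p1 : polar Q e w = 0 := hp 0
  have p2 : polar Q f w = 0 := hp 1
  have p3 : polar Q e' w = 0 := hp 2
  have p4 : polar Q f' w = 0 := hp 3
  obtain ⟨v, hv⟩ := hQ.exists_polar_eq hw0 1
  set v1 := proj Q e f v with hv1
  set v2 := proj Q e' f' v1 with hv2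
  have q0 : polar Q w v2 = 1 := by
    rw [hv2, polar_proj_of_perp p3 p4, hv1, polar_proj_of_perp p1 p2, hv]
  have q1 : polar Q e v2 = 0 := by
    rw [hv2, polar_proj_of_perp (polar_zero_of_comm o1) (polar_zero_of_comm o2), hv1, polar_proj_left h]
  have q2 : polar Q f v2 = 0 := by
    rw [hv2, polar_proj_of_perp (polar_zero_of_comm o3) (polar_zero_of_comm o4), hv1, polar_proj_right h]
  have q3 : polar Q e' v2 = 0 := by rw [hv2, polar_proj_left h']
  refine ⟨e, f, e', f', w, v2 + (-Q v2) • w, h, h', ⟨hw, ?_, ?_⟩, o1, o2, o3, o4, p1, ?_, p2, ?_, p3, ?_⟩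
  · rw [Q_add, QuadraticMap.map_smul, hw, polar_smul_right, polar_comm Q v2 w, q0]
    simp
  · rw [polar_add_right, polar_smul_right, polar_self_of_sing hw, q0]
    simp
  · rw [polar_add_right, polar_smul_right, q1, p1]; simp
  · rw [polar_add_right, polar_smul_right, q2, p2]; simp
  · rw [polar_add_right, polar_smul_right, q3, p3]; simp

/-- The complement of two hyperbolic pairs. -/
def W0 (Q : QuadraticForm K V) (e f e' f' : V) : Submodule K V where
  carrier := {v | polar Q e v = 0 ∧ polar Q f v = 0 ∧ polar Q e' v = 0 ∧ polar Q f' v = 0}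
  add_mem' := by
    rintro a b ⟨h1, h2, h3, h4⟩ ⟨h5, h6, h7, h8⟩
    refine ⟨?_, ?_, ?_, ?_⟩ <;> simp [polar_add_right, *]
  zero_mem' := by simp
  smul_mem' := by
    rintro c a ⟨h1, h2, h3, h4⟩
    refine ⟨?_, ?_, ?_, ?_⟩ <;> simp [polar_smul_right, *]

variable {e f e' f' e'' f'' : V}

theorem mem_W0 {v : V} : v ∈ W0 Q e f e' f' ↔ polar Q e v = 0 ∧ polar Q f v = 0 ∧ polar Q e' v = 0 ∧
    polar Q f' v = 0 := Iff.rfl

/-- The form on the complement is nondegenerate. -/
theorem exists_W0 (hQ : Nondeg Q) (t : Tri Q e f e' f' e'' f'') {w : V} (hw : w ∈ W0 Q e f e' f') (hw0 : w ≠ 0)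
    (a : K) : ∃ v ∈ W0 Q e f e' f', polar Q w v = a := by
  obtain ⟨p1, p2, p3, p4⟩ := hw
  obtain ⟨v, hv⟩ := hQ.exists_polar_eq hw0 a
  refine ⟨proj Q e' f' (proj Q e f v), ⟨?_, ?_, ?_, ?_⟩, ?_⟩
  · rw [polar_proj_of_perp (polar_zero_of_comm t.o1) (polar_zero_of_comm t.o2), polar_proj_left t.h1]
  · rw [polar_proj_of_perp (polar_zero_of_comm t.o3) (polar_zero_of_comm t.o4), polar_proj_right t.h1]
  · exact polar_proj_left t.h2 _
  · exact polar_proj_right t.h2 _
  · rw [polar_proj_of_perp p3 p4, polar_proj_of_perp p1 p2, hv]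

theorem polar_self_e (t : Tri Q e f e' f' e'' f'') : polar Q e e = 0 := t.h1.polar_left
theorem polar_self_e' (t : Tri Q e f e' f' e'' f'') : polar Q e' e' = 0 := t.h2.polar_left

/-- `V` is the direct sum of `W0` and two hyperbolic planes. -/
theorem card_W0 [Finite K] [FiniteDimensional K V] (t : Tri Q e f e' f' e'' f'') :
    Nat.card (W0 Q e f e' f') = Nat.card K ^ (Module.finrank K V - 4) := by
  have h2 : Module.finrank K (W0 Q e f e' f') + 4 = Module.finrank K V := by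
    let g : V →ₗ[K] (Fin 4 → K) := LinearMap.pi fun i => polarBilin Q ((![e, f, e', f'] : Fin 4 → V) i)
    have hg : ∀ v i, g v i = polar Q ((![e, f, e', f'] : Fin 4 → V) i) v := fun v i => rfl
    have hker : LinearMap.ker g = W0 Q e f e' f' := by
      ext v
      rw [LinearMap.mem_ker, mem_W0]
      constructor
      · intro h
        exact ⟨congrFun h 0, congrFun h 1, congrFun h 2, congrFun h 3⟩
      · rintro ⟨h1, h2, h3, h4⟩
        funext i
        fin_cases i
        · exact h1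
        · exact h2
        · exact h3
        · exact h4
    have hsurj : LinearMap.range g = ⊤ := by
      rw [LinearMap.range_eq_top]
      intro c
      refine ⟨c 1 • e + c 0 • f + c 3 • e' + c 2 • f', ?_⟩
      have a1 := t.h1.pair
      have a2 := t.h1.pair'
      have a3 := t.h2.pair
      have a4 := t.h2.pair'
      have a5 := t.h1.polar_left
      have a6 := t.h1.polar_right
      have a7 := t.h2.polar_left
      have a8 := t.h2.polar_right
      have b1 := t.o1
      have b2 := t.o2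
      have b3 := t.o3
      have b4 := t.o4
      have c1 := polar_zero_of_comm t.o1
      have c2 := polar_zero_of_comm t.o2
      have c3 := polar_zero_of_comm t.o3
      have c4 := polar_zero_of_comm t.o4
      funext i
      rw [hg]
      fin_cases i
      · change polar Q e _ = c 0
        simp [polar_add_right, polar_smul_right, *]
      · change polar Q f _ = c 1
        simp [polar_add_right, polar_smul_right, *]
      · change polar Q e' _ = c 2
        simp [polar_add_right, polar_smul_right, *]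
      · change polar Q f' _ = c 3
        simp [polar_add_right, polar_smul_right, *]
    have h1 := LinearMap.finrank_range_add_finrank_ker g
    rw [hker, hsurj, finrank_top, Module.finrank_fin_fun] at h1
    omega
  rw [Module.natCard_eq_pow_finrank (K := K)]
  congr 1
  omega

/-! ### The torus -/

theorem polar_zero_smul {x y : V} (h : polar Q x y = 0) (a : K) : polar Q x (a • y) = 0 := by
  rw [polar_smul_right, h, smul_zero]

/-- `x(t) = siegel(e, t e'')` -/
def xt (t : Tri Q e f e' f' e'' f'') (a : K) : ↥(E Q) := sg Q e (a • e'') t.h1.left (polar_zero_smul t.o5 a)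
/-- `y(t) = siegel(f, t f'')` -/
def yt (t : Tri Q e f e' f' e'' f'') (a : K) : ↥(E Q) := sg Q f (a • f'') t.h1.right (polar_zero_smul t.o8 a)
/-- `w(t) = x(t) y(t⁻¹) x(t)` -/
def wt (t : Tri Q e f e' f' e'' f'') (a : K) : ↥(E Q) := xt t a * yt t a⁻¹ * xt t a
/-- the torus -/
def ht (t : Tri Q e f e' f' e'' f'') (a : K) : ↥(E Q) := (wt t 1)⁻¹ * wt t a⁻¹

theorem xt_e (t : Tri Q e f e' f' e'' f'') (a : K) : (xt t a : V ≃ₗ[K] V) e = e := by
  rw [xt, sg_self]

theorem xt_e' (t : Tri Q e f e' f' e'' f'') (a : K) : (xt t a : V ≃ₗ[K] V) e' = e' := by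
  rw [xt, sg_apply, t.o1, polar_smul_left, polar_comm Q e'' e', t.o9]
  simp

theorem yt_e' (t : Tri Q e f e' f' e'' f'') (a : K) : (yt t a : V ≃ₗ[K] V) e' = e' := by
  rw [yt, sg_apply, t.o3, polar_smul_left, polar_comm Q f'' e', t.o10]
  simp

theorem yt_e (t : Tri Q e f e' f' e'' f'') (a : K) : (yt t a : V ≃ₗ[K] V) e = e + a • f'' := by
  rw [yt, sg_apply, t.h1.pair', polar_smul_left, polar_comm Q f'' e, t.o6, QuadraticMap.map_smul, t.h3.right]
  simp

theorem xt_f'' (t : Tri Q e f e' f' e'' f'') (a : K) : (xt t a : V ≃ₗ[K] V) f'' = f'' - a • e := by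
  rw [xt, sg_apply, t.o6, polar_smul_left, t.h3.pair]
  simp

theorem wt_e (t : Tri Q e f e' f' e'' f'') {a : K} (ha : a ≠ 0) : (wt t a : V ≃ₗ[K] V) e = a⁻¹ • f'' := by
  change (xt t a : V ≃ₗ[K] V) ((yt t a⁻¹ : V ≃ₗ[K] V) ((xt t a : V ≃ₗ[K] V) e)) = _
  rw [xt_e, yt_e, map_add, map_smul, xt_e, xt_f'', smul_sub, smul_smul, inv_mul_cancel₀ ha, one_smul]
  abel

theorem wt_e' (t : Tri Q e f e' f' e'' f'') (a : K) : (wt t a : V ≃ₗ[K] V) e' = e' := by
  change (xt t a : V ≃ₗ[K] V) ((yt t a⁻¹ : V ≃ₗ[K] V) ((xt t a : V ≃ₗ[K] V) e')) = _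
  rw [xt_e', yt_e', xt_e']

theorem inv_apply_eq {g : ↥(E Q)} {x y : V} (h : (g : V ≃ₗ[K] V) x = y) : ((g⁻¹ : ↥(E Q)) : V ≃ₗ[K] V) y = x := by
  change (g : V ≃ₗ[K] V).symm y = x
  rw [← h, LinearEquiv.symm_apply_apply]

theorem ht_e (t : Tri Q e f e' f' e'' f'') {a : K} (ha : a ≠ 0) : (ht t a : V ≃ₗ[K] V) e = a • e := by
  change (((wt t 1)⁻¹ : ↥(E Q)) : V ≃ₗ[K] V) ((wt t a⁻¹ : V ≃ₗ[K] V) e) = _
  have h1 := wt_e t (one_ne_zero (α := K))
  rw [inv_one, one_smul] at h1
  rw [wt_e t (inv_ne_zero ha), inv_inv, map_smul, inv_apply_eq h1]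

theorem ht_e' (t : Tri Q e f e' f' e'' f'') (a : K) : (ht t a : V ≃ₗ[K] V) e' = e' := by
  change (((wt t 1)⁻¹ : ↥(E Q)) : V ≃ₗ[K] V) ((wt t a⁻¹ : V ≃ₗ[K] V) e') = _
  rw [wt_e', inv_apply_eq (wt_e' t 1)]

/-! ### The Heisenberg group -/

/-- `z(a) = siegel(e, a e')` -/
def zt (t : Tri Q e f e' f' e'' f'') (a : K) : ↥(E Q) := sg Q e (a • e') t.h1.left (polar_zero_smul t.o1 a)

theorem zt_add (t : Tri Q e f e' f' e'' f'') (a b : K) : zt t (a + b) = zt t a * zt t b := by
  rw [zt, zt, zt, sg_mul t.h1.left _ _ (by rw [← add_smul]; exact polar_zero_smul t.o1 _)]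
  exact sg_congr _ _ _ _ rfl (add_smul _ _ _)

/-- `x(v) = siegel(e, v)` -/
def xv (t : Tri Q e f e' f' e'' f'') (v : W0 Q e f e' f') : ↥(E Q) := sg Q e v t.h1.left v.2.1
/-- `y(v) = siegel(e', v)` -/
def yv (t : Tri Q e f e' f' e'' f'') (v : W0 Q e f e' f') : ↥(E Q) := sg Q e' v t.h2.left v.2.2.2.1

theorem xv_add (t : Tri Q e f e' f' e'' f'') (v w : W0 Q e f e' f') : xv t (v + w) = xv t v * xv t w :=
  (sg_mul _ _ _ _).symm

theorem yv_add (t : Tri Q e f e' f' e'' f'') (v w : W0 Q e f e' f') : yv t (v + w) = yv t v * yv t w :=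
  (sg_mul _ _ _ _).symm

theorem mul_of_conj {G : Type*} [Group G] {g x y : G} (h : g * x * g⁻¹ = y) : g * x = y * g := by
  rw [← h]; group

theorem yv_e (t : Tri Q e f e' f' e'' f'') (v : W0 Q e f e' f') : (yv t v : V ≃ₗ[K] V) e = e := by
  rw [yv, sg_apply, polar_zero_of_comm t.o1, polar_zero_of_comm v.2.1]
  simp

theorem yv_z (t : Tri Q e f e' f' e'' f'') (v : W0 Q e f e' f') (a : K) : yv t v * zt t a = zt t a * yv t v := by
  apply mul_of_conj
  have h1 : (yv t v : V ≃ₗ[K] V) (a • e') = a • e' := by rw [map_smul, yv, sg_self]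
  rw [zt, conj_sg (yv t v) t.h1.left (polar_zero_smul t.o1 a) (by rw [yv_e]; exact t.h1.left)
    (by rw [yv_e, h1]; exact polar_zero_smul t.o1 a)]
  exact sg_congr _ _ _ _ (yv_e t v) h1

theorem xv_z (t : Tri Q e f e' f' e'' f'') (v : W0 Q e f e' f') (a : K) : xv t v * zt t a = zt t a * xv t v := by
  rw [xv, zt, sg_mul t.h1.left _ _ (by rw [polar_add_right, v.2.1, polar_zero_smul t.o1, add_zero]),
    sg_mul t.h1.left _ _ (by rw [polar_add_right, v.2.1, polar_zero_smul t.o1, add_zero])]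
  exact sg_congr _ _ _ _ rfl (add_comm _ _)

theorem yv_xv (t : Tri Q e f e' f' e'' f'') (w v : W0 Q e f e' f') :
    yv t w * xv t v = xv t v * yv t w * zt t (-(polar Q (w : V) (v : V))) := by
  have h1 : (yv t w : V ≃ₗ[K] V) v = (v : V) + (-(polar Q (w : V) (v : V))) • e' := by
    rw [yv, sg_apply, v.2.2.2.1]
    simp
    abel
  have h2 : polar Q e ((v : V) + (-(polar Q (w : V) (v : V))) • e') = 0 := by
    rw [polar_add_right, v.2.1, polar_zero_smul t.o1, add_zero]
  have h3 : yv t w * xv t v * (yv t w)⁻¹ = xv t v * zt t (-(polar Q (w : V) (v : V))) := by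
    rw [xv, conj_sg (yv t w) t.h1.left v.2.1 (by rw [yv_e]; exact t.h1.left) (by rw [yv_e, h1]; exact h2), zt,
      sg_mul t.h1.left _ _ h2]
    exact sg_congr _ _ _ _ (yv_e t w) h1
  rw [mul_of_conj h3, mul_assoc, ← yv_z, mul_assoc]

/-- The projection to the simple group. -/
def prj (Q : QuadraticForm K V) : ↥(E Q) →* P Q := QuotientGroup.mk' _

theorem kerScalar_prj (hG : Good Q) : KerScalar (prj Q) :=
  kerScalar_of_ker hG (by rw [prj, QuotientGroup.ker_mk'])

theorem zt_inj (hG : Good Q) (t : Tri Q e f e' f' e'' f'') {a : K} (h : prj Q (zt t a) = 1) : a = 0 := by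
  have h0 : polar Q e 0 = 0 := by simp
  have h1 : prj Q (sg Q e (a • e') t.h1.left (polar_zero_smul t.o1 a)) = prj Q (sg Q e 0 t.h1.left h0) := by
    rw [sg_zero, map_one]; exact h
  obtain ⟨c, hc⟩ := mem_line_of_eq hG.nondeg (kerScalar_prj hG) t.h1.left t.h1.left_ne _ _ h1
  have h2 := congrArg (polar Q f') hc
  rw [sub_zero, polar_smul_right, polar_smul_right, t.h2.pair', polar_zero_of_comm t.o2] at h2
  simpa using h2

/-- The coordinates of the special group. -/
def d0 (hG : Good Q) (t : Tri Q e f e' f' e'' f'') : D0 (P Q) (W0 Q e f e' f' × W0 Q e f e' f') K where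
  X v := prj Q (xv t v.1 * yv t v.2)
  z a := prj Q (zt t a)
  om v w := -(polar Q (v.2 : V) (w.1 : V)) + polar Q (w.2 : V) (v.1 : V)
  z_add a b := by rw [zt_add, map_mul]
  z_inj a h := zt_inj hG t h
  X_add v w := by
    refine ⟨polar Q (v.2 : V) (w.1 : V), ?_⟩
    rw [← map_mul, ← map_mul]
    congr 1
    show xv t (v.1 + w.1) * yv t (v.2 + w.2) = _
    rw [xv_add, yv_add]
    have h1 : zt t (-(polar Q (v.2 : V) (w.1 : V))) * zt t (polar Q (v.2 : V) (w.1 : V)) = 1 := by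
      rw [← zt_add, neg_add_cancel, zt, sg_congr t.h1.left _ t.h1.left (by simp) rfl (zero_smul K e'), sg_zero]
    calc xv t v.1 * xv t w.1 * (yv t v.2 * yv t w.2)
        = xv t v.1 * (xv t w.1 * yv t v.2) * yv t w.2 := by group
      _ = xv t v.1 * (xv t w.1 * yv t v.2 * (zt t (-(polar Q (v.2 : V) (w.1 : V))) *
            zt t (polar Q (v.2 : V) (w.1 : V)))) * yv t w.2 := by rw [h1, mul_one]
      _ = xv t v.1 * (xv t w.1 * yv t v.2 * zt t (-(polar Q (v.2 : V) (w.1 : V)))) *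
            (zt t (polar Q (v.2 : V) (w.1 : V)) * yv t w.2) := by group
      _ = xv t v.1 * (yv t v.2 * xv t w.1) * (yv t w.2 * zt t (polar Q (v.2 : V) (w.1 : V))) := by
          rw [← yv_xv, ← yv_z]
      _ = _ := by group
  X_z v a := by
    rw [← map_mul, ← map_mul]
    congr 1
    rw [mul_assoc, yv_z, ← mul_assoc, xv_z, mul_assoc]
  comm v w := by
    rw [← map_mul, ← map_mul, ← map_mul]
    congr 1
    have h0 : xv t w.1 * xv t v.1 = xv t v.1 * xv t w.1 := by rw [← xv_add, ← xv_add, add_comm]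
    have h0' : yv t w.2 * yv t v.2 = yv t v.2 * yv t w.2 := by rw [← yv_add, ← yv_add, add_comm]
    have h1 : xv t v.1 * yv t v.2 * (xv t w.1 * yv t w.2) =
        xv t v.1 * xv t w.1 * (yv t v.2 * yv t w.2) * zt t (-(polar Q (v.2 : V) (w.1 : V))) := by
      calc xv t v.1 * yv t v.2 * (xv t w.1 * yv t w.2) = xv t v.1 * (yv t v.2 * xv t w.1) * yv t w.2 := by group
        _ = xv t v.1 * xv t w.1 * yv t v.2 * (zt t (-(polar Q (v.2 : V) (w.1 : V))) * yv t w.2) := by
            rw [yv_xv]; group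
        _ = _ := by rw [← yv_z]; group
    have h2 : xv t w.1 * yv t w.2 * (xv t v.1 * yv t v.2) =
        xv t v.1 * xv t w.1 * (yv t v.2 * yv t w.2) * zt t (-(polar Q (w.2 : V) (v.1 : V))) := by
      rw [← h0, ← h0']
      calc xv t w.1 * yv t w.2 * (xv t v.1 * yv t v.2) = xv t w.1 * (yv t w.2 * xv t v.1) * yv t v.2 := by group
        _ = xv t w.1 * xv t v.1 * yv t w.2 * (zt t (-(polar Q (w.2 : V) (v.1 : V))) * yv t v.2) := by
            rw [yv_xv]; group
        _ = _ := by rw [← yv_z]; group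
    rw [h1, h2, mul_assoc _ (zt t (-(polar Q (w.2 : V) (v.1 : V)))), ← zt_add]
    congr 2
    ring
  special v hv a := by
    by_cases h1 : v.1 = 0
    · have h2 : (v.2 : V) ≠ 0 := by
        intro h2
        exact hv (Prod.ext h1 (Subtype.ext h2))
      obtain ⟨w, hw, hwa⟩ := exists_W0 hG.nondeg t v.2.2 h2 (-a)
      refine ⟨(⟨w, hw⟩, 0), ?_⟩
      simp [hwa]
    · have h2 : (v.1 : V) ≠ 0 := fun h2 => h1 (Subtype.ext h2)
      obtain ⟨w, hw, hwa⟩ := exists_W0 hG.nondeg t v.1.2 h2 a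
      refine ⟨(0, ⟨w, hw⟩), ?_⟩
      simp [polar_comm Q w, hwa]

theorem ht_conj (hG : Good Q) (t : Tri Q e f e' f' e'' f'') (c a : K) (hc : c ≠ 0) :
    prj Q (ht t c) * (d0 hG t).z a * (prj Q (ht t c))⁻¹ = (d0 hG t).z (c * a) := by
  change prj Q (ht t c) * prj Q (zt t a) * (prj Q (ht t c))⁻¹ = prj Q (zt t (c * a))
  rw [← map_inv, ← map_mul, ← map_mul]
  congr 1
  have h1 := ht_e t hc
  have h2 : (ht t c : V ≃ₗ[K] V) (a • e') = a • e' := by rw [map_smul, ht_e']
  have h3 : Q (c • e) = 0 := by rw [QuadraticMap.map_smul, t.h1.left, smul_zero]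
  have h4 : polar Q (c • e) (a • e') = 0 := by rw [polar_smul_left, polar_zero_smul t.o1, smul_zero]
  have h5 : polar Q e (c • a • e') = 0 := by rw [polar_smul_right, polar_zero_smul t.o1, smul_zero]
  rw [zt, conj_sg (ht t c) t.h1.left _ (by rw [h1]; exact h3) (by rw [h1, h2]; exact h4),
    sg_congr (by rw [h1]; exact h3) (by rw [h1, h2]; exact h4) h3 h4 h1 h2, sg_smul c t.h1.left h3 h4 h5]
  exact sg_congr _ _ _ _ rfl (smul_smul _ _ _)

/-- **The Heisenberg bound for a nondegenerate quadratic form in dimension at least seven.** -/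
theorem bd_P [Finite K] [FiniteDimensional K V] (hQ : Nondeg Q) (h7 : 7 ≤ Module.finrank K V) {r f : ℕ}
    (hr : r.Prime) (hK : Nat.card K = r ^ f) {F : Type u} [Field F] (hrF : (r : F) ≠ 0) :
    Bd F r ((Nat.card K - 1) * Nat.card K ^ (Module.finrank K V - 4)) (P Q) := by
  intro n hP
  have hG : Good Q := Cfsg.Agent.LieClassical.OrthFinite.good_of_finite hQ (by omega)
  obtain ⟨e, f1, e', f', e'', f'', t⟩ := exists_tri hQ h7
  have hfin : Finite (W0 Q e f1 e' f') := Module.finite_of_finite K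
  have hc : Nat.card (W0 Q e f1 e' f' × W0 Q e f1 e' f') = (Nat.card K ^ (Module.finrank K V - 4)) ^ 2 := by
    rw [Nat.card_prod, card_W0 t, pow_two]
  have h1 := bd_of_D0 (d0 hG t) hr (k := f * (2 * (Module.finrank K V - 4) + 1))
    (by rw [hc, hK]; ring) (fun c => prj Q (ht t c)) (fun c a hc => ht_conj hG t c a hc) hrF hP
  rw [hc, ← mul_pow] at h1
  exact (Nat.pow_le_pow_iff_left two_ne_zero).1 h1

end geo

/-! ### The three families -/

section fam

open Cfsg.Agent.LieClassical.QuadForms Cfsg.Agent.AutOrth.Main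

variable {K : Type v} [Field K] [Fintype K] {F : Type u} [Field F] {r f : ℕ}

theorem bd_pomega_odd_heis (hr : r.Prime) (hrF : (r : F) ≠ 0) (hK : Fintype.card K = r ^ f) (h2 : (2 : K) ≠ 0) {m : ℕ}
    (hm : 3 ≤ m) : Bd F r ((Fintype.card K - 1) * Fintype.card K ^ (2 * m - 3))
      (Cfsg.POmega K (Cfsg.quadFormOdd m K)) := by
  rw [← coe_oddForm]
  have hG : Good (oddForm m K) := good_odd (by omega) h2
  have h1 := bd_P (F := F) hG.nondeg (by simp; omega) hr (by rw [Nat.card_eq_fintype_card, hK]) hrF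
  have h3 : Module.finrank K (Unit ⊕ (Fin m ⊕ Fin m) → K) - 4 = 2 * m - 3 := by simp; omega
  rw [h3, Nat.card_eq_fintype_card] at h1
  exact h1.congr (pe hG)

theorem bd_pomega_plus_heis (hr : r.Prime) (hrF : (r : F) ≠ 0) (hK : Fintype.card K = r ^ f) {m : ℕ}
    (hm : 4 ≤ m) : Bd F r ((Fintype.card K - 1) * Fintype.card K ^ (2 * m - 4))
      (Cfsg.POmega K (Cfsg.quadFormPlus m K)) := by
  rw [← coe_plusForm]
  have hG : Good (plusForm m K) := good_plus (by omega)
  have h1 := bd_P (F := F) hG.nondeg (by simp; omega) hr (by rw [Nat.card_eq_fintype_card, hK]) hrF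
  have h3 : Module.finrank K (Fin m ⊕ Fin m → K) - 4 = 2 * m - 4 := by simp; omega
  rw [h3, Nat.card_eq_fintype_card] at h1
  exact h1.congr (pe hG)

/-- `Ω⁻_{2m}(q)`. -/
theorem bd_pomega_minus_heis (hr : r.Prime) (hrF : (r : F) ≠ 0) (hK : Fintype.card K = r ^ f) {m : ℕ} (hm : 4 ≤ m)
    {a b : K} (hab : ∀ z₁ z₂ : K, z₁ ^ 2 + a * z₁ * z₂ + b * z₂ ^ 2 = 0 → z₁ = 0 ∧ z₂ = 0) :
    Bd F r ((Fintype.card K - 1) * Fintype.card K ^ (2 * m - 4))
      (Cfsg.POmega K (Cfsg.quadFormMinus (m - 1) K a b)) := by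
  rw [← coe_minusForm]
  have hG : Good (minusForm (m - 1) K a b) := good_minus (by omega) hab
  have h1 := bd_P (F := F) hG.nondeg (by simp; omega) hr (by rw [Nat.card_eq_fintype_card, hK]) hrF
  have h3 : Module.finrank K ((Fin (m - 1) ⊕ Fin (m - 1)) ⊕ Fin 2 → K) - 4 = 2 * m - 4 := by simp; omega
  rw [h3, Nat.card_eq_fintype_card] at h1
  exact h1.congr (pe hG)

end fam

end Cfsg.Agent.H203.OrthHeis
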