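import Cfsg.Agent.H203.LSLift

/-!
# The Heisenberg bound, general form

* `hw` : the tie relation in a central extension: if `g x g⁻¹ = x y`, `g z g⁻¹ = z w e`, then
  `[y, z] [x, w] = 1` for all lifts;
* `HeisG` : families `A i : M i → T`, `B i : N i → T`, pairings `β i : M i → N i → S`, `X : S → T`, and in every central
  extension a lift `X'` of `X` with `[A i m, B i n] = X' (β i m n)`;
* `LS.heisG` : the bound `|τ| * ∏ |N i|`.
-/

set_option autoImplicit false
set_option linter.dupNamespace false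
set_option linter.style.haveILetI false

universe u v w u' w'

namespace Cfsg.Agent.H203.LS

/-- **The tie relation.** -/
theorem hw {P : Type v} {T : Type u} [Group P] [Group T] {π : P →* T} (hc : π.ker ≤ Subgroup.center P)
    {g x y z w e : P} (h1 : π (g * x * g⁻¹) = π (x * y)) (h2 : π (g * z * g⁻¹) = π (z * w * e))
    (xz : x * z = z * x) (yw : y * w = w * y) (xe : x * e = e * x) (ye : y * e = e * y)
    (px : (y * z * y⁻¹ * z⁻¹) * x = x * (y * z * y⁻¹ * z⁻¹)) (qz : (x * w * x⁻¹ * w⁻¹) * z = z * (x * w * x⁻¹ * w⁻¹)) :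
    (y * z * y⁻¹ * z⁻¹) * (x * w * x⁻¹ * w⁻¹) = 1 := by
  have e3 : (x * y) * (z * w * e) * (x * y)⁻¹ * (z * w * e)⁻¹ = 1 := by
    rw [comm_eq hc h1.symm h2.symm]
    calc g * x * g⁻¹ * (g * z * g⁻¹) * (g * x * g⁻¹)⁻¹ * (g * z * g⁻¹)⁻¹
        = g * (x * z) * (z * x)⁻¹ * g⁻¹ := by group
      _ = 1 := by rw [xz]; group
  have e4 : (x * y) * e = e * (x * y) := by rw [mul_assoc, ye, ← mul_assoc, xe, mul_assoc]
  have e4' : (x * y)⁻¹ = e * (x * y)⁻¹ * e⁻¹ := by
    calc (x * y)⁻¹ = (x * y)⁻¹ * (e * (x * y)) * (x * y)⁻¹ * e⁻¹ := by group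
      _ = (x * y)⁻¹ * ((x * y) * e) * (x * y)⁻¹ * e⁻¹ := by rw [e4]
      _ = _ := by group
  have e5 : (x * y) * (z * w) * (x * y)⁻¹ * (z * w)⁻¹ = 1 := by
    calc (x * y) * (z * w) * (x * y)⁻¹ * (z * w)⁻¹
        = (x * y) * (z * w) * (e * (x * y)⁻¹ * e⁻¹) * (z * w)⁻¹ := by rw [← e4']
      _ = (x * y) * (z * w * e) * (x * y)⁻¹ * (z * w * e)⁻¹ := by group
      _ = 1 := e3
  set p := y * z * y⁻¹ * z⁻¹ with hp
  set q := x * w * x⁻¹ * w⁻¹ with hq
  have f1 : y * z = p * z * y := by rw [hp]; group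
  have f2 : x * w = q * w * x := by rw [hq]; group
  have f3 : (x * y) * (z * w) = p * q * ((z * w) * (x * y)) := by
    calc (x * y) * (z * w) = x * (y * z) * w := by group
      _ = x * (p * z * y) * w := by rw [f1]
      _ = (x * p) * z * (y * w) := by group
      _ = (p * x) * z * (w * y) := by rw [px, yw]
      _ = p * (x * z) * w * y := by group
      _ = p * (z * x) * w * y := by rw [xz]
      _ = p * z * (x * w) * y := by group
      _ = p * z * (q * w * x) * y := by rw [f2]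
      _ = p * (z * q) * w * x * y := by group
      _ = p * (q * z) * w * x * y := by rw [qz]
      _ = _ := by group
  rw [f3] at e5
  have : p * q * (z * w * (x * y)) * (x * y)⁻¹ * (z * w)⁻¹ = p * q := by group
  rw [this] at e5
  exact e5

/-- General Heisenberg systems. -/
structure HeisG {T : Type u} [Group T] {ι : Type w'} {S : Type u'} [AddCommGroup S] {M N : ι → Type u'} (X : S → T)
    (A : ∀ i, M i → T) (B : ∀ i, N i → T) (β : ∀ i, M i → N i → S) : Prop where
  XX : ∀ s t, SC.{u, v} (X s) (X t)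
  XA : ∀ i s a, SC.{u, v} (X s) (A i a)
  XB : ∀ i s b, SC.{u, v} (X s) (B i b)
  AA : ∀ i j a b, SC.{u, v} (A i a) (A j b)
  BA : ∀ i j, i ≠ j → ∀ a b, SC.{u, v} (B i a) (A j b)
  hat : ∀ (P : Type v) [Group P] (π : P →* T), Function.Surjective π → π.ker ≤ Subgroup.center P →
    ∃ X' : S → P, (∀ s, π (X' s) = X s) ∧ (∀ s t, X' (s + t) = X' s * X' t) ∧
      ∀ i a b, ∀ p q : P, π p = A i a → π q = B i b → p * q * p⁻¹ * q⁻¹ = X' (β i a b)

/-- **The Heisenberg bound, general form.** -/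
theorem LS.heisG {r : ℕ} {T : Type u} [Group T] [IsSimpleGroup T] {ι : Type w'} [Fintype ι] [DecidableEq ι]
    {S : Type u'} [AddCommGroup S]
    {M N : ι → Type u'} {X : S → T} {A : ∀ i, M i → T} {B : ∀ i, N i → T} {β : ∀ i, M i → N i → S}
    (hH : HeisG.{u, v} X A B β) (hr : ∀ s : S, r • s = 0) {s₀ : S} (hX : X s₀ ≠ 1)
    [∀ i, Fintype (N i)]
    (hβ : ∀ i, ∀ n n' : N i, n ≠ n' → ∀ s : S, ∃ m, β i m n = β i m n' + s)
    {o : ∀ i, N i} (hBo : ∀ i, B i (o i) = 1)
    {τ : Type u'} [Fintype τ] (h : τ → T) (μ : τ → S → S) (hμ : ∀ t t', t ≠ t' → ∀ s, ∃ x, μ t x = μ t' x + s)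
    (ν : τ → ∀ i, M i → M i) (hν : ∀ t i, Function.Surjective (ν t i))
    (hhA : ∀ t i a, (h t)⁻¹ * A i a * h t = A i (ν t i a))
    {i₀ : ι} (ν' : τ → N i₀ → N i₀)
    (hβs : ∀ s, ∃ m n, β i₀ m n = s)
    (hhB : ∀ t b, (h t)⁻¹ * B i₀ b * h t = B i₀ (ν' t b))
    (hμν : ∀ t m n, β i₀ (ν t i₀ m) (ν' t n) = μ t (β i₀ m n)) :
    LS.{u, v, w} r (Fintype.card τ * ∏ i, Fintype.card (N i)) T := by
  classical
  apply LS.of_core
  intro P _ π k _ _ V _ _ _ ρ hC
  have hπ := hC.surj
  have hc := hC.cen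
  obtain ⟨X', hX'π, hX'add, hD⟩ := hH.hat P π hπ hc
  choose sA hA using fun (i : ι) (a : M i) => hπ (A i a)
  choose sB hB using fun (i : ι) (b : N i) => hπ (B i b)
  choose h' hh' using fun t => hπ (h t)
  have hX'0 : X' 0 = 1 := add_map_zero hX'add
  have hXA : ∀ s i a p, π p = A i a → X' s * p = p * X' s := fun s i a p hp =>
    hH.XA i s a P π hπ hc _ _ (hX'π s) hp
  have hXB : ∀ s i b p, π p = B i b → X' s * p = p * X' s := fun s i b p hp =>
    hH.XB i s b P π hπ hc _ _ (hX'π s) hp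
  -- the commuting family
  let J : Type v := {p : P // (∃ s, π p = X s) ∨ ∃ i a, π p = A i a}
  have hJ : ∀ p q : J, ρ (p : P) * ρ (q : P) = ρ (q : P) * ρ (p : P) := by
    rintro ⟨p, hp⟩ ⟨q, hq⟩
    rw [← map_mul, ← map_mul]
    congr 1
    rcases hp with ⟨s, hp⟩ | ⟨i, a, hp⟩ <;> rcases hq with ⟨t, hq⟩ | ⟨j, b, hq⟩
    · exact hH.XX s t P π hπ hc p q hp hq
    · exact hH.XA j s b P π hπ hc p q hp hq
    · exact (hH.XA i t a P π hπ hc q p hq hp).symm
    · exact hH.AA i j a b P π hπ hc p q hp hq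
  let jX : S → J := fun s => ⟨X' s, Or.inl ⟨s, hX'π s⟩⟩
  obtain ⟨v, χ, hv, hχ, hχ0⟩ := exists_weight (fun p : J => ρ (p : P)) hJ (j0 := jX s₀) hC.rk (by
    show ρ (X' s₀) ^ r = 1
    rw [← map_pow, add_map_pow hX'add, hr, hX'0, map_one])
    (hC.ne_one (by rw [hX'π]; exact hX))
  -- the character of `X'`
  let ξ : S → k := fun s => χ (jX s)
  have hξ : ∀ s, ρ (X' s) v = ξ s • v := fun s => hχ (jX s)
  have hξ0 : ξ s₀ ≠ 1 := hχ0
  have hξadd : ∀ s t, ξ (s + t) = ξ s * ξ t := by
    intro s t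
    have h1 : ξ (s + t) • v = (ξ s * ξ t) • v := by
      rw [← hξ, hX'add, map_mul, Module.End.mul_apply, hξ, map_smul, hξ, smul_smul, mul_comm]
    have h2 : (ξ (s + t) - ξ s * ξ t) • v = 0 := by rw [sub_smul, h1, sub_self]
    exact sub_eq_zero.1 ((smul_eq_zero.1 h2).resolve_right hv)
  have hξne : ∀ s, ξ s ≠ 0 := by
    intro s hs
    apply hC.ne_zero (X' s) hv
    rw [hξ, hs, zero_smul]
  have hξsep : ∀ a b : S, a = b + s₀ → ξ a ≠ ξ b := by
    rintro a b rfl h1
    rw [hξadd] at h1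
    exact hξ0 (mul_left_cancel₀ (hξne _) (by rw [h1, mul_one]))
  -- the translations
  have hβo : ∀ i a, X' (β i a (o i)) = 1 := by
    intro i a
    rw [← hD i a (o i) (sA i a) 1 (hA i a) (by rw [map_one, hBo])]
    group
  have hG : ∀ b : ∀ i, N i, ∃ g : P, (∀ i a p, π p = A i a → p * g = g * (p * X' (β i a (b i)))) ∧
      ∀ s, X' s * g = g * X' s := by
    intro b
    have : ∀ U : Finset ι, ∃ g : P,
      (∀ i a p, π p = A i a → p * g = g * (p * (if i ∈ U then X' (β i a (b i)) else 1))) ∧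
      ∀ s, X' s * g = g * X' s := by
      intro U
      induction U using Finset.induction_on with
      | empty => exact ⟨1, fun i a p _ => by simp, fun s => by simp⟩
      | insert j U hj ih =>
        obtain ⟨g, h1, h2⟩ := ih
        refine ⟨g * sB j (b j), fun i a p hp => ?_, fun s => ?_⟩
        · by_cases hij : i = j
          · subst hij
            have e1 : p * sB i (b i) = sB i (b i) * (p * X' (β i a (b i))) := by
              have e2 : p * sB i (b i) * p⁻¹ * (sB i (b i))⁻¹ = X' (β i a (b i)) := hD i a (b i) p _ hp (hB i _)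
              have e3 := hXA (β i a (b i)) i a p hp
              have e4 := hXB (β i a (b i)) i (b i) _ (hB i (b i))
              calc p * sB i (b i) = (p * sB i (b i) * p⁻¹ * (sB i (b i))⁻¹) * sB i (b i) * p := by group
                _ = X' (β i a (b i)) * sB i (b i) * p := by rw [e2]
                _ = sB i (b i) * (X' (β i a (b i)) * p) := by rw [e4, mul_assoc]
                _ = _ := by rw [e3]
            rw [if_pos (Finset.mem_insert_self _ _)]
            have e5 := h1 i a p hp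
            rw [if_neg hj, mul_one] at e5
            rw [← mul_assoc, e5, mul_assoc, e1, ← mul_assoc]
          · have e1 : sB j (b j) * p = p * sB j (b j) :=
              hH.BA j i (Ne.symm hij) (b j) a P π hπ hc _ _ (hB _ _) hp
            have e2 : (if i ∈ insert j U then X' (β i a (b i)) else 1) = if i ∈ U then X' (β i a (b i)) else 1 := by
              simp [Finset.mem_insert, hij]
            rw [e2]
            have e4 : (if i ∈ U then X' (β i a (b i)) else 1) * sB j (b j) =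
                sB j (b j) * (if i ∈ U then X' (β i a (b i)) else 1) := by
              split
              · exact hXB _ j (b j) _ (hB _ _)
              · rw [one_mul, mul_one]
            calc p * (g * sB j (b j)) = (p * g) * sB j (b j) := by group
              _ = g * (p * (if i ∈ U then X' (β i a (b i)) else 1)) * sB j (b j) := by rw [h1 i a p hp]
              _ = g * p * ((if i ∈ U then X' (β i a (b i)) else 1) * sB j (b j)) := by group
              _ = g * p * (sB j (b j) * (if i ∈ U then X' (β i a (b i)) else 1)) := by rw [e4]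
              _ = g * (p * sB j (b j)) * (if i ∈ U then X' (β i a (b i)) else 1) := by group
              _ = g * (sB j (b j) * p) * (if i ∈ U then X' (β i a (b i)) else 1) := by rw [e1]
              _ = _ := by group
        · rw [← mul_assoc, h2, mul_assoc, hXB s j (b j) _ (hB _ _), ← mul_assoc]
    obtain ⟨g, h1, h2⟩ := this Finset.univ
    exact ⟨g, fun i a p hp => by rw [h1 i a p hp, if_pos (Finset.mem_univ i)], h2⟩
  choose G hG1 hG2 using hG
  -- the torus
  have hT : ∀ t s, X' s * h' t = h' t * X' (μ t s) := by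
    intro t s
    obtain ⟨m, n, rfl⟩ := hβs s
    have e1 : (h' t)⁻¹ * X' (β i₀ m n) * h' t = X' (μ t (β i₀ m n)) := by
      rw [← hD i₀ m n (sA i₀ m) (sB i₀ n) (hA _ _) (hB _ _), ← hμν,
        ← hD i₀ (ν t i₀ m) (ν' t n) ((h' t)⁻¹ * sA i₀ m * h' t) ((h' t)⁻¹ * sB i₀ n * h' t)
          (by rw [map_mul, map_mul, map_inv, hA, hh', hhA]) (by rw [map_mul, map_mul, map_inv, hB, hh', hhB])]
      group
    rw [← e1]; group
  have hTA : ∀ t i a, π ((h' t)⁻¹ * sA i a * h' t) = A i (ν t i a) := fun t i a => by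
    rw [map_mul, map_mul, map_inv, hA, hh', hhA]
  -- the weights
  have key := card_le_of_weights (ι := τ × (∀ i, N i)) (J := S ⊕ (Σ i, M i))
    (Sum.elim (fun s => ρ (X' s)) (fun x => ρ (sA x.1 x.2)))
    (fun x => ρ (h' x.1 * G x.2) v)
    (fun x => Sum.elim (fun s => ξ (μ x.1 s))
      (fun y => χ ⟨(h' x.1)⁻¹ * sA y.1 y.2 * h' x.1, Or.inr ⟨y.1, _, hTA x.1 y.1 y.2⟩⟩ *
        ξ (β y.1 (ν x.1 y.1 y.2) (x.2 y.1))))
    (fun x => hC.ne_zero _ hv) ?_ ?_
  · rw [Nat.card_prod, Nat.card_eq_fintype_card, Nat.card_eq_fintype_card, Fintype.card_pi] at key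
    exact key
  · rintro ⟨t, b⟩ (s | ⟨i, a⟩)
    · simp only [Sum.elim_inl]
      rw [← Module.End.mul_apply, ← map_mul]
      have e1 : X' s * (h' t * G b) = h' t * G b * X' (μ t s) := by
        rw [← mul_assoc, hT, mul_assoc, hG2, ← mul_assoc]
      rw [e1, map_mul, Module.End.mul_apply, hξ, map_smul]
    · simp only [Sum.elim_inr]
      rw [← Module.End.mul_apply, ← map_mul]
      have e0 := hG1 b i (ν t i a) _ (hTA t i a)
      have e1 : sA i a * (h' t * G b) = h' t * G b * (((h' t)⁻¹ * sA i a * h' t) * X' (β i (ν t i a) (b i))) := by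
        calc sA i a * (h' t * G b) = h' t * (((h' t)⁻¹ * sA i a * h' t) * G b) := by group
          _ = h' t * (G b * (((h' t)⁻¹ * sA i a * h' t) * X' (β i (ν t i a) (b i)))) := by rw [e0]
          _ = _ := by group
      rw [e1, map_mul ρ (h' t * G b), Module.End.mul_apply, map_mul ρ ((h' t)⁻¹ * sA i a * h' t),
        Module.End.mul_apply, hξ, map_smul]
      have e2 := hχ ⟨(h' t)⁻¹ * sA i a * h' t, Or.inr ⟨i, _, hTA t i a⟩⟩
      simp only at e2
      rw [e2, map_smul, map_smul, smul_smul, mul_comm]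
  · rintro ⟨t, b⟩ ⟨t', b'⟩ hx
    have ht : t = t' := by
      by_contra hne
      obtain ⟨s, hs⟩ := hμ _ _ hne s₀
      exact hξsep _ _ hs (congrFun hx (Sum.inl s))
    subst ht
    have hb : b = b' := by
      funext i
      by_contra hne
      obtain ⟨m, hm⟩ := hβ i _ _ hne s₀
      obtain ⟨m', rfl⟩ := hν t i m
      have h1 := congrFun hx (Sum.inr ⟨i, m'⟩)
      simp only [Sum.elim_inr] at h1
      have h2 : χ ⟨(h' t)⁻¹ * sA i m' * h' t, Or.inr ⟨i, _, hTA t i m'⟩⟩ ≠ 0 := by
        intro h0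
        have e2 := hχ ⟨(h' t)⁻¹ * sA i m' * h' t, Or.inr ⟨i, _, hTA t i m'⟩⟩
        rw [h0, zero_smul] at e2
        exact hC.ne_zero _ hv e2
      exact hξsep _ _ hm (mul_left_cancel₀ h2 h1)
    rw [hb]

end Cfsg.Agent.H203.LS
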