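import Cfsg.Agent.H203.LSLift

/-!
# The Heisenberg bound, arbitrary kernels

`Heis n X A B` : `X`, `A i`, `B i` (`i < n`) root groups over `F` in `T` with `[A i a, B i b] = X (a * b)`, the other pairs
commute strongly (`SC`: in all central extensions), and the indices are connected by *ties*
(`g A_j(a) g⁻¹ = A_j(a) A_i(t a)`, `g B_i(b) g⁻¹ = B_i(b) B_j(- t b)`).

* `Heis.D_eq` : in every central extension `[A_i(a), B_i(b)]` depends only on `a * b`;
* `LS.heis` : the bound `|τ| * |F| ^ n`, `τ` the set of the values of the torus on `X`.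
-/

set_option autoImplicit false
set_option linter.dupNamespace false
set_option linter.style.haveILetI false

universe u v w u' w'

namespace Cfsg.Agent.H203.LS

/-- ties -/
def Tie {T : Type u} [Group T] {F : Type w'} [Field F] {n : ℕ} (A B : Fin n → F → T) (i j : Fin n) : Prop :=
  i ≠ j ∧ ∀ t, ∃ g : T, ∀ a b, g * A j a * g⁻¹ = A j a * A i (t * a) ∧ g * B i b * g⁻¹ = B i b * B j (-(t * b))

/-- Heisenberg systems. -/
structure Heis {T : Type u} [Group T] {F : Type w'} [Field F] (n : ℕ) (X : F → T) (A B : Fin n → F → T) : Prop where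
  X_add : ∀ s t, X (s + t) = X s * X t
  A_add : ∀ i s t, A i (s + t) = A i s * A i t
  B_add : ∀ i s t, B i (s + t) = B i s * B i t
  AB : ∀ i a b, A i a * B i b * (A i a)⁻¹ * (B i b)⁻¹ = X (a * b)
  XX : ∀ s t, SC.{u, v} (X s) (X t)
  XA : ∀ i s a, SC.{u, v} (X s) (A i a)
  XB : ∀ i s b, SC.{u, v} (X s) (B i b)
  AA : ∀ i j a b, SC.{u, v} (A i a) (A j b)
  BA : ∀ i j, i ≠ j → ∀ a b, SC.{u, v} (B i a) (A j b)
  two : 2 ≤ n
  tie : ∀ i : Fin n, 0 < (i : ℕ) → ∃ j : Fin n, (j : ℕ) < i ∧ (Tie A B i j ∨ Tie A B j i)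

namespace Heis

variable {T : Type u} [Group T] {F : Type w'} [Field F] {n : ℕ} {X : F → T} {A B : Fin n → F → T}
  {P : Type v} [Group P] {π : P →* T}

section

variable (hH : Heis.{u, v} n X A B) (hπ : Function.Surjective π) (hc : π.ker ≤ Subgroup.center P)
  {sA sB : Fin n → F → P} (hA : ∀ i a, π (sA i a) = A i a) (hB : ∀ i b, π (sB i b) = B i b)

omit hc in
include hH hA hB in
/-- commutators of lifts lie over `X` -/
theorem πD (i : Fin n) (a b : F) : π (sA i a * sB i b * (sA i a)⁻¹ * (sB i b)⁻¹) = X (a * b) := by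
  rw [map_mul, map_mul, map_mul, map_inv, map_inv, hA, hB, hH.AB]

include hH hπ hc hA hB in
theorem D_add_right (i : Fin n) (a b b' : F) :
    sA i a * sB i (b + b') * (sA i a)⁻¹ * (sB i (b + b'))⁻¹ =
      (sA i a * sB i b * (sA i a)⁻¹ * (sB i b)⁻¹) * (sA i a * sB i b' * (sA i a)⁻¹ * (sB i b')⁻¹) := by
  rw [comm_eq hc (a := sA i a) (a' := sA i a) (b := sB i (b + b')) (b' := sB i b * sB i b') rfl
    (by rw [map_mul, hB, hB, hB, hH.B_add])]
  have h1 : (sA i a * sB i b' * (sA i a)⁻¹ * (sB i b')⁻¹) * sB i b = sB i b * (sA i a * sB i b' * (sA i a)⁻¹ * (sB i b')⁻¹) :=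
    hH.XB i (a * b') b P π hπ hc _ _ (hH.πD hA hB i a b') (hB i b)
  calc sA i a * (sB i b * sB i b') * (sA i a)⁻¹ * (sB i b * sB i b')⁻¹
      = (sA i a * sB i b * (sA i a)⁻¹ * (sB i b)⁻¹) * (sB i b * (sA i a * sB i b' * (sA i a)⁻¹ * (sB i b')⁻¹)) *
        (sB i b)⁻¹ := by group
    _ = (sA i a * sB i b * (sA i a)⁻¹ * (sB i b)⁻¹) * ((sA i a * sB i b' * (sA i a)⁻¹ * (sB i b')⁻¹) * sB i b) *
        (sB i b)⁻¹ := by rw [h1]
    _ = _ := by group

include hH hπ hc hA hB in
/-- the effect of a tie -/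
theorem tie_eq {i j : Fin n} (ht : Tie A B i j) (t a b : F) :
    sA i (t * a) * sB i b * (sA i (t * a))⁻¹ * (sB i b)⁻¹ =
      sA j a * sB j (t * b) * (sA j a)⁻¹ * (sB j (t * b))⁻¹ := by
  obtain ⟨hij, ht⟩ := ht
  obtain ⟨g, hg⟩ := ht t
  obtain ⟨g', hg'⟩ := hπ g
  obtain ⟨h1, h2⟩ := hg a b
  -- the four commutators
  set x := sA j a with hx
  set y := sA i (t * a) with hy
  set z := sB i b with hz
  set w := sB j (-(t * b)) with hw
  have e1 : x * z = z * x := (hH.BA i j hij b a P π hπ hc z x (hB i b) (hA j a)).symm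
  have e2 : y * w = w * y := (hH.BA j i hij.symm _ _ P π hπ hc w y (hB _ _) (hA _ _)).symm
  -- conjugating by `g'`
  have e3 : (x * y) * (z * w) * (x * y)⁻¹ * (z * w)⁻¹ = 1 := by
    rw [comm_eq hc (a := x * y) (a' := g' * x * g'⁻¹) (b := z * w) (b' := g' * z * g'⁻¹)
      (by rw [map_mul, map_mul, map_mul, map_inv, hx, hy, hA, hA, hg', h1])
      (by rw [map_mul, map_mul, map_mul, map_inv, hz, hw, hB, hB, hg', h2])]
    calc g' * x * g'⁻¹ * (g' * z * g'⁻¹) * (g' * x * g'⁻¹)⁻¹ * (g' * z * g'⁻¹)⁻¹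
        = g' * (x * z) * (z * x)⁻¹ * g'⁻¹ := by group
      _ = 1 := by rw [e1]; group
  -- the central elements
  set p := y * z * y⁻¹ * z⁻¹ with hp
  set q := x * w * x⁻¹ * w⁻¹ with hq
  have hπp : π p = X (t * a * b) := hH.πD hA hB i (t * a) b
  have hπq : π q = X (a * (-(t * b))) := hH.πD hA hB j a (-(t * b))
  have px : p * x = x * p := hH.XA j _ a P π hπ hc p x hπp (hA j a)
  have qy : q * y = y * q := hH.XA i _ _ P π hπ hc q y hπq (hA _ _)
  have qz : q * z = z * q := hH.XB i _ _ P π hπ hc q z hπq (hB _ _)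
  have pq : p * q = 1 := by
    have f1 : y * z = p * z * y := by rw [hp]; group
    have f2 : x * w = q * w * x := by rw [hq]; group
    have f3 : (x * y) * (z * w) = p * q * ((z * w) * (x * y)) := by
      calc (x * y) * (z * w) = x * (y * z) * w := by group
        _ = x * (p * z * y) * w := by rw [f1]
        _ = (x * p) * z * (y * w) := by group
        _ = (p * x) * z * (w * y) := by rw [px, e2]
        _ = p * (x * z) * w * y := by group
        _ = p * (z * x) * w * y := by rw [e1]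
        _ = p * z * (x * w) * y := by group
        _ = p * z * (q * w * x) * y := by rw [f2]
        _ = p * (z * q) * w * x * y := by group
        _ = p * (q * z) * w * x * y := by rw [qz]
        _ = _ := by group
    rw [f3] at e3
    have : p * q * (z * w * (x * y)) * (x * y)⁻¹ * (z * w)⁻¹ = p * q := by group
    rw [this] at e3
    exact e3
  -- and `q⁻¹`
  have hqi : (sA j a * sB j (t * b) * (sA j a)⁻¹ * (sB j (t * b))⁻¹) * q = 1 := by
    rw [hq, hx, hw, ← hH.D_add_right hπ hc hA hB, add_neg_cancel]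
    have : π (sB j 0) = 1 := by rw [hB, add_map_zero (hH.B_add j)]
    rw [comm_eq hc (a := sA j a) (a' := sA j a) (b := sB j 0) (b' := 1) rfl (by rw [this, map_one])]
    group
  exact (mul_right_cancel (pq.trans hqi.symm))

include hH hπ hc hA hB in
/-- **In every central extension `[A_i(a), B_i(b)]` depends only on `a * b`.** -/
theorem D_eq (i : Fin n) (a b : F) :
    sA i a * sB i b * (sA i a)⁻¹ * (sB i b)⁻¹ =
      sA ⟨0, by have := hH.two; omega⟩ 1 * sB ⟨0, by have := hH.two; omega⟩ (a * b) *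
        (sA ⟨0, by have := hH.two; omega⟩ 1)⁻¹ * (sB ⟨0, by have := hH.two; omega⟩ (a * b))⁻¹ := by
  have h2 := hH.two
  -- the base
  have h0 : ∀ a b, sA ⟨0, by omega⟩ a * sB ⟨0, by omega⟩ b * (sA ⟨0, by omega⟩ a)⁻¹ * (sB ⟨0, by omega⟩ b)⁻¹ =
      sA ⟨0, by omega⟩ 1 * sB ⟨0, by omega⟩ (a * b) *
        (sA ⟨0, by omega⟩ 1)⁻¹ * (sB ⟨0, by omega⟩ (a * b))⁻¹ := by
    intro a b
    obtain ⟨j, hj, ht⟩ := hH.tie ⟨1, by omega⟩ (by simp)
    have hj0 : j = ⟨0, by omega⟩ := Fin.ext (by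
      have : (j : ℕ) < 1 := hj
      show (j : ℕ) = 0
      omega)
    rw [hj0] at ht
    rcases ht with ht | ht
    · have k1 := hH.tie_eq hπ hc hA hB ht 1 a b
      have k2 := hH.tie_eq hπ hc hA hB ht a 1 b
      rw [one_mul, one_mul] at k1
      rw [mul_one] at k2
      rw [← k1, k2]
    · have k1 := hH.tie_eq hπ hc hA hB ht a 1 b
      have k2 := hH.tie_eq hπ hc hA hB ht 1 1 (a * b)
      rw [mul_one] at k1
      rw [one_mul, one_mul] at k2
      rw [k1, k2]
  have key : ∀ m : ℕ, ∀ i : Fin n, (i : ℕ) ≤ m → ∀ a b, sA i a * sB i b * (sA i a)⁻¹ * (sB i b)⁻¹ =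
      sA ⟨0, by omega⟩ 1 * sB ⟨0, by omega⟩ (a * b) *
        (sA ⟨0, by omega⟩ 1)⁻¹ * (sB ⟨0, by omega⟩ (a * b))⁻¹ := by
    intro m
    induction m with
    | zero =>
      intro i hi a b
      have : i = ⟨0, by omega⟩ := Fin.ext (by show (i : ℕ) = 0; omega)
      rw [this]; exact h0 a b
    | succ m ih =>
      intro i hi a b
      by_cases hi0 : (i : ℕ) = 0
      · have : i = ⟨0, by omega⟩ := Fin.ext hi0
        rw [this]; exact h0 a b
      obtain ⟨j, hj, ht⟩ := hH.tie i (by omega)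
      have hjm := ih j (by omega)
      rcases ht with ht | ht
      · have k2 := hH.tie_eq hπ hc hA hB ht a 1 b
        rw [mul_one] at k2
        rw [k2, hjm, one_mul]
      · have k2 := hH.tie_eq hπ hc hA hB ht 1 a b
        rw [one_mul, one_mul] at k2
        rw [← k2, hjm]
  exact key _ i le_rfl a b

end

end Heis

/-- **The Heisenberg bound.** -/
theorem LS.heis {r : ℕ} {T : Type u} [Group T] [IsSimpleGroup T] {F : Type w'} [Field F] [Finite F] [CharP F r]
    {n : ℕ} {X : F → T} {A B : Fin n → F → T} (hH : Heis.{u, v} n X A B) {s₀ : F} (hX : X s₀ ≠ 1)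
    {τ : Type u'} [Finite τ] (h : τ → T) (μ : τ → F) (hμ : Function.Injective μ) (ν : τ → Fin n → F) (ν' : τ → F)
    (hν : ∀ t i, ν t i ≠ 0) {i₀ : Fin n} (hi₀ : (i₀ : ℕ) = 0)
    (hhA : ∀ t i a, (h t)⁻¹ * A i a * h t = A i (ν t i * a))
    (hhB : ∀ t b, (h t)⁻¹ * B i₀ b * h t = B i₀ (ν' t * b))
    (hμν : ∀ t, μ t = ν t i₀ * ν' t) : LS.{u, v, w} r (Nat.card τ * Nat.card F ^ n) T := by
  classical
  apply LS.of_core
  intro P _ π k _ _ V _ _ _ ρ hC
  have hπ := hC.surj
  have hc := hC.cen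
  choose sA hA using fun i a => hπ (A i a)
  choose sB hB using fun i b => hπ (B i b)
  choose h' hh' using fun t => hπ (h t)
  have hi₀' : i₀ = ⟨0, by have := hH.two; omega⟩ := Fin.ext hi₀
  let X' : F → P := fun s => sA i₀ 1 * sB i₀ s * (sA i₀ 1)⁻¹ * (sB i₀ s)⁻¹
  have hX'π : ∀ s, π (X' s) = X s := fun s => by
    show π (sA i₀ 1 * sB i₀ s * (sA i₀ 1)⁻¹ * (sB i₀ s)⁻¹) = _
    rw [hH.πD hA hB, one_mul]
  have hX'add : ∀ s t, X' (s + t) = X' s * X' t := fun s t => hH.D_add_right hπ hc hA hB i₀ 1 s t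
  have hD : ∀ i a b, sA i a * sB i b * (sA i a)⁻¹ * (sB i b)⁻¹ = X' (a * b) := by
    intro i a b
    rw [hH.D_eq hπ hc hA hB i a b]
    show _ = sA i₀ 1 * sB i₀ (a * b) * (sA i₀ 1)⁻¹ * (sB i₀ (a * b))⁻¹
    rw [hi₀']
  have hX'0 : X' 0 = 1 := add_map_zero hX'add
  have hX'X : ∀ s t, X' s * X' t = X' t * X' s := fun s t => by rw [← hX'add, ← hX'add, add_comm]
  have hXA : ∀ s i a p, π p = A i a → X' s * p = p * X' s := fun s i a p hp =>
    hH.XA i s a P π hπ hc _ _ (hX'π s) hp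
  have hXB : ∀ s i b p, π p = B i b → X' s * p = p * X' s := fun s i b p hp =>
    hH.XB i s b P π hπ hc _ _ (hX'π s) hp
  -- the commuting family
  let J : Type v := {p : P // (∃ s, π p = X s) ∨ ∃ i a, π p = A i a}
  have hJ : ∀ p q : J, ρ (p : P) * ρ (q : P) = ρ (q : P) * ρ (p : P) := by
    rintro ⟨p, hp⟩ ⟨q, hq⟩
    rw [← map_mul, ← map_mul]
    congr 1
    rcases hp with ⟨s, hp⟩ | ⟨i, a, hp⟩ <;> rcases hq with ⟨t, hq⟩ | ⟨j, b, hq⟩
    · exact hH.XX s t P π hπ hc p q hp hq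
    · exact hH.XA j s b P π hπ hc p q hp hq
    · exact (hH.XA i t a P π hπ hc q p hq hp).symm
    · exact hH.AA i j a b P π hπ hc p q hp hq
  let jX : F → J := fun s => ⟨X' s, Or.inl ⟨s, hX'π s⟩⟩
  obtain ⟨v, χ, hv, hχ, hχ0⟩ := exists_weight (fun p : J => ρ (p : P)) hJ (j0 := jX s₀) hC.rk (by
    show ρ (X' s₀) ^ r = 1
    rw [← map_pow, add_map_pow hX'add, ← Nat.cast_smul_eq_nsmul F, CharP.cast_eq_zero, zero_smul, hX'0, map_one])
    (hC.ne_one (by rw [hX'π]; exact hX))
  -- the character of `X'`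
  let ξ : F → k := fun s => χ (jX s)
  have hξ : ∀ s, ρ (X' s) v = ξ s • v := fun s => hχ (jX s)
  have hξ0 : ξ s₀ ≠ 1 := hχ0
  have hξadd : ∀ s t, ξ (s + t) = ξ s * ξ t := by
    intro s t
    have h1 : ξ (s + t) • v = (ξ s * ξ t) • v := by
      rw [← hξ, hX'add, map_mul, Module.End.mul_apply, hξ, map_smul, hξ, smul_smul, mul_comm]
    have h2 : (ξ (s + t) - ξ s * ξ t) • v = 0 := by rw [sub_smul, h1, sub_self]
    exact sub_eq_zero.1 ((smul_eq_zero.1 h2).resolve_right hv)
  have hξne : ∀ s, ξ s ≠ 0 := by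
    intro s hs
    apply hC.ne_zero (X' s) hv
    rw [hξ, hs, zero_smul]
  have hξsep : ∀ a b : F, a ≠ b → ∃ s, ξ (a * s) ≠ ξ (b * s) := by
    intro a b hab
    refine ⟨(a - b)⁻¹ * s₀, fun h1 => hξ0 ?_⟩
    have h2 : a * ((a - b)⁻¹ * s₀) = b * ((a - b)⁻¹ * s₀) + s₀ := by
      have h3 : (a - b) * ((a - b)⁻¹ * s₀) = s₀ := mul_inv_cancel_left₀ (sub_ne_zero.2 hab) _
      rw [sub_mul, sub_eq_iff_eq_add] at h3
      rw [h3, add_comm]
    rw [h2, hξadd] at h1
    exact mul_left_cancel₀ (hξne _) (by rw [h1, mul_one])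
  -- the translations
  have hG : ∀ b : Fin n → F, ∃ g : P, (∀ i a p, π p = A i a → p * g = g * (p * X' (a * b i))) ∧
      ∀ s, X' s * g = g * X' s := by
    intro b
    have : ∀ S : Finset (Fin n), ∃ g : P, (∀ i a p, π p = A i a → p * g = g * (p * X' (a * (if i ∈ S then b i else 0)))) ∧
      ∀ s, X' s * g = g * X' s := by
      intro S
      induction S using Finset.induction_on with
      | empty => exact ⟨1, fun i a p _ => by simp [hX'0], fun s => by simp⟩
      | insert j S hj ih =>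
        obtain ⟨g, h1, h2⟩ := ih
        refine ⟨g * sB j (b j), fun i a p hp => ?_, fun s => ?_⟩
        · by_cases hij : i = j
          · subst hij
            have e1 : p * sB i (b i) = sB i (b i) * (p * X' (a * b i)) := by
              have e2 : p * sB i (b i) * p⁻¹ * (sB i (b i))⁻¹ = X' (a * b i) := by
                rw [← hD]
                exact comm_eq hc (by rw [hp, hA]) rfl
              have e3 := hXA (a * b i) i a p hp
              have e4 := hXB (a * b i) i (b i) _ (hB i (b i))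
              calc p * sB i (b i) = (p * sB i (b i) * p⁻¹ * (sB i (b i))⁻¹) * sB i (b i) * p := by group
                _ = X' (a * b i) * sB i (b i) * p := by rw [e2]
                _ = sB i (b i) * (X' (a * b i) * p) := by rw [e4, mul_assoc]
                _ = _ := by rw [e3]
            rw [if_pos (Finset.mem_insert_self _ _)]
            have e5 := h1 i a p hp
            rw [if_neg hj, mul_zero, hX'0, mul_one] at e5
            rw [← mul_assoc, e5, mul_assoc, e1, ← mul_assoc]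
          · have e1 : sB j (b j) * p = p * sB j (b j) :=
              hH.BA j i (Ne.symm hij) (b j) a P π hπ hc _ _ (hB _ _) hp
            have e2 : (if i ∈ insert j S then b i else 0) = if i ∈ S then b i else 0 := by
              simp [Finset.mem_insert, hij]
            rw [e2]
            have e4 := hXB (a * (if i ∈ S then b i else 0)) j (b j) _ (hB _ _)
            calc p * (g * sB j (b j)) = (p * g) * sB j (b j) := by group
              _ = g * (p * X' (a * (if i ∈ S then b i else 0))) * sB j (b j) := by rw [h1 i a p hp]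
              _ = g * p * (X' (a * (if i ∈ S then b i else 0)) * sB j (b j)) := by group
              _ = g * p * (sB j (b j) * X' (a * (if i ∈ S then b i else 0))) := by rw [e4]
              _ = g * (p * sB j (b j)) * X' (a * (if i ∈ S then b i else 0)) := by group
              _ = g * (sB j (b j) * p) * X' (a * (if i ∈ S then b i else 0)) := by rw [e1]
              _ = _ := by group
        · rw [← mul_assoc, h2, mul_assoc, hXB s j (b j) _ (hB _ _), ← mul_assoc]
    obtain ⟨g, h1, h2⟩ := this Finset.univ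
    exact ⟨g, fun i a p hp => by rw [h1 i a p hp, if_pos (Finset.mem_univ i)], h2⟩
  choose G hG1 hG2 using hG
  -- the torus
  have hT : ∀ t s, X' s * h' t = h' t * X' (μ t * s) := by
    intro t s
    have e1 : (h' t)⁻¹ * X' s * h' t = X' (μ t * s) := by
      have e2 : (h' t)⁻¹ * X' s * h' t = ((h' t)⁻¹ * sA i₀ 1 * h' t) * ((h' t)⁻¹ * sB i₀ s * h' t) *
          ((h' t)⁻¹ * sA i₀ 1 * h' t)⁻¹ * ((h' t)⁻¹ * sB i₀ s * h' t)⁻¹ := by
        show (h' t)⁻¹ * (sA i₀ 1 * sB i₀ s * (sA i₀ 1)⁻¹ * (sB i₀ s)⁻¹) * h' t = _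
        group
      rw [e2, comm_eq hc (a := (h' t)⁻¹ * sA i₀ 1 * h' t) (a' := sA i₀ (ν t i₀))
        (b := (h' t)⁻¹ * sB i₀ s * h' t) (b' := sB i₀ (ν' t * s))
        (by rw [map_mul, map_mul, map_inv, hA, hA, hh', hhA, mul_one])
        (by rw [map_mul, map_mul, map_inv, hB, hB, hh', hhB]), hD, hμν]
      congr 1; ring
    rw [← e1]; group
  have hTA : ∀ t i a, π ((h' t)⁻¹ * sA i a * h' t) = A i (ν t i * a) := fun t i a => by
    rw [map_mul, map_mul, map_inv, hA, hh', hhA]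
  -- the weights
  haveI : Fintype F := Fintype.ofFinite F
  have key := card_le_of_weights (ι := τ × (Fin n → F)) (J := F ⊕ (Fin n × F))
    (Sum.elim (fun s => ρ (X' s)) (fun x => ρ (sA x.1 x.2)))
    (fun x => ρ (h' x.1 * G x.2) v)
    (fun x => Sum.elim (fun s => ξ (μ x.1 * s))
      (fun y => χ ⟨(h' x.1)⁻¹ * sA y.1 y.2 * h' x.1, Or.inr ⟨y.1, _, hTA x.1 y.1 y.2⟩⟩ *
        ξ (ν x.1 y.1 * y.2 * x.2 y.1)))
    (fun x => hC.ne_zero _ hv) ?_ ?_
  · rw [Nat.card_prod, Nat.card_fun, Nat.card_eq_fintype_card (α := Fin n), Fintype.card_fin] at key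
    exact key
  · rintro ⟨t, b⟩ (s | ⟨i, a⟩)
    · simp only [Sum.elim_inl]
      rw [← Module.End.mul_apply, ← map_mul]
      have e1 : X' s * (h' t * G b) = h' t * G b * X' (μ t * s) := by
        rw [← mul_assoc, hT, mul_assoc, hG2, ← mul_assoc]
      rw [e1, map_mul, Module.End.mul_apply, hξ, map_smul]
    · simp only [Sum.elim_inr]
      rw [← Module.End.mul_apply, ← map_mul]
      have e0 := hG1 b i (ν t i * a) _ (hTA t i a)
      have e1 : sA i a * (h' t * G b) = h' t * G b * (((h' t)⁻¹ * sA i a * h' t) * X' (ν t i * a * b i)) := by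
        calc sA i a * (h' t * G b) = h' t * (((h' t)⁻¹ * sA i a * h' t) * G b) := by group
          _ = h' t * (G b * (((h' t)⁻¹ * sA i a * h' t) * X' (ν t i * a * b i))) := by rw [e0]
          _ = _ := by group
      rw [e1, map_mul ρ (h' t * G b), Module.End.mul_apply, map_mul ρ ((h' t)⁻¹ * sA i a * h' t),
        Module.End.mul_apply, hξ, map_smul]
      have e2 := hχ ⟨(h' t)⁻¹ * sA i a * h' t, Or.inr ⟨i, _, hTA t i a⟩⟩
      simp only at e2
      rw [e2, map_smul, map_smul, smul_smul, mul_comm]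
  · rintro ⟨t, b⟩ ⟨t', b'⟩ hx
    have ht : t = t' := by
      apply hμ
      by_contra hne
      obtain ⟨s, hs⟩ := hξsep _ _ hne
      exact hs (congrFun hx (Sum.inl s))
    subst ht
    have hb : b = b' := by
      funext i
      by_contra hne
      obtain ⟨s, hs⟩ := hξsep _ _ hne
      have h1 := congrFun hx (Sum.inr (i, (ν t i)⁻¹ * s))
      simp only [Sum.elim_inr] at h1
      have h2 : χ ⟨(h' t)⁻¹ * sA i ((ν t i)⁻¹ * s) * h' t, Or.inr ⟨i, _, hTA t i _⟩⟩ ≠ 0 := by
        intro h0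
        have e2 := hχ ⟨(h' t)⁻¹ * sA i ((ν t i)⁻¹ * s) * h' t, Or.inr ⟨i, _, hTA t i _⟩⟩
        rw [h0, zero_smul] at e2
        exact hC.ne_zero _ hv e2
      have h3 := mul_left_cancel₀ h2 h1
      rw [mul_inv_cancel_left₀ (hν t i), mul_comm s, mul_comm s] at h3
      exact hs h3
    rw [hb]

end Cfsg.Agent.H203.LS
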