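import Cfsg.Agent.H203.LSHeisG

/-!
# Heisenberg systems with a trace form: three pairs over `K`, centre over `Fix φ`, arbitrary kernels
-/

set_option autoImplicit false
set_option linter.dupNamespace false
set_option linter.style.haveILetI false

universe u v w

namespace Cfsg.Agent.H203.LS.Trace

section field

variable {K : Type u} [Field K] {φ : K →+* K} (h2 : ∀ a, φ (φ a) = a)

include h2 in
theorem exists_tr (hne : ∃ a, φ a ≠ a) : ∃ θ : K, θ + φ θ = 1 := by
  obtain ⟨θ, hθ⟩ : ∃ θ : K, θ + φ θ ≠ 0 := by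
    by_contra hcon
    push Not at hcon
    obtain ⟨a, ha⟩ := hne
    have h1 := hcon 1
    rw [map_one] at h1
    have h3 := hcon a
    exact ha (by linear_combination h3 - a * h1)
  refine ⟨(θ + φ θ)⁻¹ * θ, ?_⟩
  rw [map_mul, map_inv₀, map_add, h2, add_comm (φ θ) θ, ← mul_add, inv_mul_cancel₀ hθ]

include h2 in
theorem exists_sub {θ : K} (hθ : θ + φ θ = 1) {y : K} (hy : y + φ y = 0) : ∃ w, w - φ w = y := by
  refine ⟨y * φ θ, ?_⟩
  rw [map_mul, h2]
  linear_combination y * hθ - θ * hy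

end field

/-- Heisenberg systems with a trace form. -/
structure TrSys {T : Type u} [Group T] {K : Type u} [Field K] (φ : K →+* K) (X : K → T)
    (A B : Fin 3 → K → T) : Prop where
  inv : ∀ a, φ (φ a) = a
  ne : ∃ a, φ a ≠ a
  addX : ∀ s t, φ s = s → φ t = t → X (s + t) = X s * X t
  addA : ∀ i s t, A i (s + t) = A i s * A i t
  addB : ∀ i s t, B i (s + t) = B i s * B i t
  comm : ∀ i a b, A i a * B i b * (A i a)⁻¹ * (B i b)⁻¹ = X (a * b + φ (a * b))
  XX : ∀ s t, φ s = s → φ t = t → SC.{u, v} (X s) (X t)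
  XA : ∀ i s a, φ s = s → SC.{u, v} (X s) (A i a)
  XB : ∀ i s b, φ s = s → SC.{u, v} (X s) (B i b)
  AA : ∀ i j a b, SC.{u, v} (A i a) (A j b)
  BA : ∀ i j, i ≠ j → ∀ a b, SC.{u, v} (B i a) (A j b)
  tie : ∀ i j : Fin 3, i < j → ∀ t : K, ∃ g : T, (∀ a, g * A i a * g⁻¹ = A i a * A j (φ (t * a))) ∧
    ∀ b, g * B j b * g⁻¹ = B j b * B i (-(t * φ b))

section

variable {T : Type u} [Group T] {K : Type u} [Field K] {φ : K →+* K} {X : K → T} {A B : Fin 3 → K → T}
  (H : TrSys.{u, v} φ X A B)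

include H

theorem tr_fix (y : K) : φ (y + φ y) = y + φ y := by rw [map_add, H.inv, add_comm]

section hat

variable {P : Type v} [Group P] {π : P →* T} (hπ : Function.Surjective π) (hc : π.ker ≤ Subgroup.center P)

include hπ hc in
/-- the commutators of the lifts -/
theorem exists_E : ∃ E : Fin 3 → K → K → P, (∀ i a b, π (E i a b) = X (a * b + φ (a * b))) ∧
    (∀ i a b, ∀ p q : P, π p = A i a → π q = B i b → p * q * p⁻¹ * q⁻¹ = E i a b) ∧
    (∀ i a a' b, E i (a + a') b = E i a b * E i a' b) ∧ (∀ i a b b', E i a (b + b') = E i a b * E i a b') := by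
  choose sA hsA using fun (i : Fin 3) (a : K) => hπ (A i a)
  choose sB hsB using fun (i : Fin 3) (b : K) => hπ (B i b)
  let E : Fin 3 → K → K → P := fun i a b => sA i a * sB i b * (sA i a)⁻¹ * (sB i b)⁻¹
  have hE : ∀ i a b, π (E i a b) = X (a * b + φ (a * b)) := by
    intro i a b
    show π (sA i a * sB i b * (sA i a)⁻¹ * (sB i b)⁻¹) = _
    rw [map_mul, map_mul, map_mul, map_inv, map_inv, hsA, hsB, H.comm]
  have hEc : ∀ i a b, ∀ p q : P, π p = A i a → π q = B i b → p * q * p⁻¹ * q⁻¹ = E i a b :=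
    fun i a b p q hp hq => comm_eq hc (by rw [hp, hsA]) (by rw [hq, hsB])
  have cA : ∀ i a b j c p, π p = A j c → E i a b * p = p * E i a b := fun i a b j c p hp =>
    H.XA j _ c (tr_fix H _) P π hπ hc _ _ (hE i a b) hp
  have cB : ∀ i a b j c p, π p = B j c → E i a b * p = p * E i a b := fun i a b j c p hp =>
    H.XB j _ c (tr_fix H _) P π hπ hc _ _ (hE i a b) hp
  refine ⟨E, hE, hEc, ?_, ?_⟩
  · intro i a a' b
    have h1 := hEc i (a + a') b (sA i a * sA i a') (sB i b) (by rw [map_mul, hsA, hsA, H.addA]) (hsB i b)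
    rw [← h1]
    have h2 : sA i a * E i a' b = E i a' b * sA i a := (cA i a' b i a _ (hsA i a)).symm
    have h3 : E i a b * E i a' b = E i a' b * E i a b := by
      exact H.XX _ _ (tr_fix H _) (tr_fix H _) P π hπ hc _ _ (hE i a b) (hE i a' b)
    calc sA i a * sA i a' * sB i b * (sA i a * sA i a')⁻¹ * (sB i b)⁻¹
        = sA i a * (sA i a' * sB i b * (sA i a')⁻¹ * (sB i b)⁻¹) * sB i b * (sA i a)⁻¹ * (sB i b)⁻¹ := by group
      _ = (sA i a * E i a' b) * sB i b * (sA i a)⁻¹ * (sB i b)⁻¹ := rfl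
      _ = E i a' b * (sA i a * sB i b * (sA i a)⁻¹ * (sB i b)⁻¹) := by rw [h2]; group
      _ = E i a' b * E i a b := rfl
      _ = _ := h3.symm
  · intro i a b b'
    have h1 := hEc i a (b + b') (sA i a) (sB i b * sB i b') (hsA i a) (by rw [map_mul, hsB, hsB, H.addB])
    rw [← h1]
    have h2 : sB i b * E i a b' = E i a b' * sB i b := (cB i a b' i b _ (hsB i b)).symm
    calc sA i a * (sB i b * sB i b') * (sA i a)⁻¹ * (sB i b * sB i b')⁻¹
        = (sA i a * sB i b * (sA i a)⁻¹ * (sB i b)⁻¹) * (sB i b * (sA i a * sB i b' * (sA i a)⁻¹ * (sB i b')⁻¹)) *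
            (sB i b)⁻¹ := by group
      _ = E i a b * (sB i b * E i a b') * (sB i b)⁻¹ := rfl
      _ = E i a b * E i a b' := by rw [h2]; group

include hπ hc in
theorem tieE {E : Fin 3 → K → K → P} (e1 : ∀ i a b, π (E i a b) = X (a * b + φ (a * b)))
    (e2 : ∀ i a b, ∀ p q : P, π p = A i a → π q = B i b → p * q * p⁻¹ * q⁻¹ = E i a b)
    (e4 : ∀ i a b b', E i a (b + b') = E i a b * E i a b')
    {i j : Fin 3} (hij : i < j) (t a b : K) : E j (φ (t * a)) b = E i a (t * φ b) := by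
  obtain ⟨g₀, hg1, hg2⟩ := H.tie i j hij t
  obtain ⟨g, rfl⟩ := hπ g₀
  obtain ⟨x, hx⟩ := hπ (A i a)
  obtain ⟨y, hy⟩ := hπ (A j (φ (t * a)))
  obtain ⟨z, hz⟩ := hπ (B j b)
  obtain ⟨w, hww⟩ := hπ (B i (-(t * φ b)))
  have hne : i ≠ j := ne_of_lt hij
  have m1 := e2 j (φ (t * a)) b y z hy hz
  have m2 := e2 i a (-(t * φ b)) x w hx hww
  have key := hw hc (g := g) (x := x) (y := y) (z := z) (w := w) (e := 1)
    (by rw [map_mul, map_mul, map_inv, hx, hg1, ← hx, ← hy, ← map_mul])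
    (by rw [mul_one, map_mul, map_mul, map_inv, hz, hg2, ← hz, ← hww, ← map_mul])
    (H.BA j i hne.symm b a P π hπ hc z x hz hx).symm (H.BA i j hne _ _ P π hπ hc w y hww hy).symm
    (by rw [mul_one, one_mul]) (by rw [mul_one, one_mul])
    (by rw [m1]; exact H.XA i _ a (tr_fix H _) P π hπ hc _ _ (e1 j _ _) hx)
    (by rw [m2]; exact H.XB j _ b (tr_fix H _) P π hπ hc _ _ (e1 i _ _) hz)
  rw [m1, m2, add_map_neg (e4 i a), mul_inv_eq_one] at key
  exact key

end hat

/-- **The lift.** -/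
theorem hat {P : Type v} [Group P] {π : P →* T} (hπ : Function.Surjective π) (hc : π.ker ≤ Subgroup.center P) :
    ∃ G : K → P, (∀ y, π (G y) = X (y + φ y)) ∧ (∀ s t, G (s + t) = G s * G t) ∧ (∀ y, y + φ y = 0 → G y = 1) ∧
      ∀ i a b, ∀ p q : P, π p = A i a → π q = B i b → p * q * p⁻¹ * q⁻¹ = G (a * b) := by
  obtain ⟨E, e1, e2, e3, e4⟩ := exists_E H hπ hc
  obtain ⟨θ, hθ⟩ := exists_tr H.inv H.ne
  have t01 := fun t a b => tieE H hπ hc e1 e2 e4 (i := 0) (j := 1) (by decide) t a b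
  have t02 := fun t a b => tieE H hπ hc e1 e2 e4 (i := 0) (j := 2) (by decide) t a b
  have t12 := fun t a b => tieE H hπ hc e1 e2 e4 (i := 1) (j := 2) (by decide) t a b
  -- `E i a b` depends only on `a b`
  have prod : ∀ i, (∃ j, ∀ t a b, E j (φ (t * a)) b = E i a (t * φ b)) → ∀ a b, E i a b = E i (a * b) 1 := by
    rintro i ⟨j, hj⟩ a b
    have h1 := hj b a 1
    have h2 := hj 1 (a * b) 1
    rw [map_one, mul_one] at h1 h2
    rw [one_mul] at h2
    rw [← h2, ← h1, mul_comm b a]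
  have p0 := prod 0 ⟨1, t01⟩
  have p1 := prod 1 ⟨2, t12⟩
  have p2 : ∀ a b, E 2 a b = E 2 (a * b) 1 := by
    intro a b
    have h1 := t12 1 (φ a) b
    have h2 := t12 1 (φ (a * b)) 1
    rw [one_mul, H.inv] at h1 h2
    rw [h1, h2, p1, p1 (φ (a * b)), map_one, map_mul]
    congr 1
    ring
  have g01 : ∀ y, E 1 (φ y) 1 = E 0 y 1 := fun y => by
    have := t01 1 y 1
    rwa [one_mul, one_mul, map_one] at this
  have g02 : ∀ y, E 2 (φ y) 1 = E 0 y 1 := fun y => by
    have := t02 1 y 1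
    rwa [one_mul, one_mul, map_one] at this
  have g12 : ∀ y, E 2 (φ y) 1 = E 1 y 1 := fun y => by
    have := t12 1 y 1
    rwa [one_mul, one_mul, map_one] at this
  have q1 : ∀ y, E 1 y 1 = E 0 y 1 := fun y => by rw [← g12, g02]
  have q0 : ∀ y, E 0 (φ y) 1 = E 0 y 1 := fun y => by rw [← q1, g01]
  have q2 : ∀ y, E 2 y 1 = E 0 y 1 := fun y => by
    have := g02 (φ y)
    rw [H.inv] at this
    rw [this, q0]
  refine ⟨fun y => E 0 y 1, fun y => ?_, fun s t => e3 0 s t 1, fun y hy => ?_, fun i a b p q hp hq => ?_⟩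
  · rw [e1, mul_one]
  · obtain ⟨w, rfl⟩ := exists_sub H.inv hθ hy
    show E 0 (w - φ w) 1 = 1
    rw [add_map_sub (f := fun y => E 0 y 1) (fun s t => e3 0 s t 1)]
    simp only [q0, mul_inv_cancel]
  · rw [e2 i a b p q hp hq]
    fin_cases i
    · exact p0 a b
    · exact (p1 a b).trans (q1 _)
    · exact (p2 a b).trans (q2 _)

/-- the fixed field -/
abbrev Fx (φ : K →+* K) : Subfield K := RingHom.eqLocusField φ (RingHom.id K)

omit H in
theorem fx (t : Fx φ) : φ t = t := t.2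

/-- the form -/
def β (h2 : ∀ a, φ (φ a) = a) (_ : Fin 3) (a b : K) : Fx φ := ⟨a * b + φ (a * b), by
  show φ (a * b + φ (a * b)) = a * b + φ (a * b)
  rw [map_add, h2, add_comm]⟩

theorem heisG : HeisG.{u, v} (fun s : Fx φ => X s) A B (β H.inv) where
  XX s t := H.XX _ _ (fx s) (fx t)
  XA i s a := H.XA i _ _ (fx s)
  XB i s b := H.XB i _ _ (fx s)
  AA := H.AA
  BA := H.BA
  hat P _ π hπ hc := by
    obtain ⟨G, h1, h2, h3, h4⟩ := hat H hπ hc
    obtain ⟨θ, hθ⟩ := exists_tr H.inv H.ne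
    refine ⟨fun s => G ((s : K) * θ), fun s => ?_, fun s t => ?_, fun i a b p q hp hq => ?_⟩
    · rw [h1, map_mul, fx s, ← mul_add, hθ, mul_one]
    · rw [← h2, ← add_mul]; rfl
    · rw [h4 i a b p q hp hq]
      show G (a * b) = G ((a * b + φ (a * b)) * θ)
      have e2 : G (a * b - (a * b + φ (a * b)) * θ) = 1 := by
        apply h3
        have e3 : φ (a * b + φ (a * b)) = a * b + φ (a * b) := by rw [map_add, H.inv, add_comm]
        rw [map_sub, map_mul φ (a * b + φ (a * b)) θ, e3]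
        linear_combination -(a * b + φ (a * b)) * hθ
      rw [add_map_sub h2, mul_inv_eq_one] at e2
      exact e2

/-- **The bound.** -/
theorem ls [Finite T] [IsSimpleGroup T] [Finite K] {r : ℕ} [CharP K r] (hX : X 1 ≠ 1)
    (htor : ∀ x : K, φ x = x → x ≠ 0 → ∃ h : T, (∀ i a, h * A i a * h⁻¹ = A i (x * a)) ∧
      ∀ i b, h * B i b * h⁻¹ = B i b) :
    LS.{u, v, w} r ((Nat.card (Fx φ) - 1) * Nat.card K ^ 3) T := by
  classical
  haveI : Fintype K := Fintype.ofFinite K
  haveI : Fintype (Fx φ) := Fintype.ofFinite _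
  obtain ⟨θ, hθ⟩ := exists_tr H.inv H.ne
  have hst : ∀ x : (Fx φ)ˣ, φ ((x : Fx φ) : K) = ((x : Fx φ) : K) := fun x => fx _
  have hx0 : ∀ x : (Fx φ)ˣ, ((x : Fx φ) : K) ≠ 0 := fun x h => x.ne_zero (Subtype.ext h)
  choose h gA gB using fun x : (Fx φ)ˣ => htor ((x : Fx φ) : K) (hst x) (hx0 x)
  have hs : ∀ s : Fx φ, (s : K) * θ + φ ((s : K) * θ) = s := fun s => by
    rw [map_mul, fx s, ← mul_add, hθ, mul_one]
  have key := LS.heisG.{u, v, w} (r := r) (heisG H) (s₀ := 1) (fun s => by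
      rw [nsmul_eq_mul]
      apply Subtype.ext
      show ((r : Fx φ) : K) * (s : K) = 0
      have : ((r : Fx φ) : K) = (r : K) := map_natCast (Fx φ).subtype r
      rw [this, CharP.cast_eq_zero, zero_mul]) hX
    (fun i (n n' : K) (hn : n ≠ n') (s : Fx φ) => ⟨(((s : K) * θ) / (n - n') : K), Subtype.ext (by
          have hnn : n - n' ≠ 0 := sub_ne_zero.2 hn
          show ((s : K) * θ) / (n - n') * n + φ (((s : K) * θ) / (n - n') * n) =
            ((s : K) * θ) / (n - n') * n' + φ (((s : K) * θ) / (n - n') * n') + s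
          have e : ((s : K) * θ) / (n - n') * n = ((s : K) * θ) / (n - n') * n' + s * θ := by
            field_simp
            ring
          rw [e, map_add]
          linear_combination hs s)⟩)
    (o := fun _ => 0) (fun i => add_map_zero (H.addB i))
    (τ := (Fx φ)ˣ) (fun x => (h x)⁻¹) (fun x s => (x : Fx φ) * s)
    (fun t t' htt s => ⟨s / ((t : Fx φ) - t'), by
      have hnn : (t : Fx φ) - t' ≠ 0 := sub_ne_zero.2 fun h => htt (Units.ext h)
      show (t : Fx φ) * (s / ((t : Fx φ) - t')) = (t' : Fx φ) * (s / ((t : Fx φ) - t')) + s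
      field_simp
      ring⟩)
    (fun x _ a => ((x : Fx φ) : K) * a)
    (fun x _ a => ⟨((x : Fx φ) : K)⁻¹ * a, mul_inv_cancel_left₀ (hx0 x) a⟩)
    (fun x i a => by rw [inv_inv]; exact gA x i a)
    (i₀ := 0) (fun x b => b) (fun s => ⟨((s : K) * θ : K), (1 : K), Subtype.ext (by
      show (s : K) * θ * 1 + φ ((s : K) * θ * 1) = s
      rw [mul_one, hs])⟩)
    (fun x b => by rw [inv_inv]; exact gB x _ b)
    (fun x (m n : K) => Subtype.ext (by
      show ((x : Fx φ) : K) * m * n + φ (((x : Fx φ) : K) * m * n) = ((x : Fx φ) : K) * (m * n + φ (m * n))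
      rw [mul_assoc, map_mul, hst x]
      ring))
  rw [Finset.prod_const, Finset.card_univ, Fintype.card_fin, Fintype.card_units, ← Nat.card_eq_fintype_card,
    ← Nat.card_eq_fintype_card] at key
  exact key

end

end Cfsg.Agent.H203.LS.Trace
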